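import Groth.Agent.H66.LieWt.Weights
import Groth.Agent.Lib.LieS.Bracket
import Groth.Agent.H1.Classical.Scheme
import Mathlib.Algebra.Lie.Nilpotent

/-!
Nilpotency of a Lie algebra of an affine group, read on derivations.
-/

set_option autoImplicit false

universe u

open CategoryTheory MonoidalCategory CartesianMonoidalCategory MonObj GrpObj AlgebraicGeometry TensorProduct WithConv
  Coalgebra Groth.Agent.Lib.LieS.Points Groth.Agent.Lib.LieS.Bracket Groth.Agent.H1.Classical.Scheme'
  Groth.Agent.H1.Classical.Words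

namespace Groth.Agent.H66.LieWt

set_option linter.style.haveILetI false
set_option linter.unusedSectionVars false

noncomputable section

variable {k : Type u} [Field k] {A : Type u} [CommRing A] [HopfAlgebra k A]

/-- The structure map of the base point. -/
abbrev bf (k : Type u) [Field k] : Spec (CommRingCat.of k) ⟶ Spec (CommRingCat.of k) :=
  Spec.map (CommRingCat.ofHom (algebraMap k k))

section Points

variable {C : Type u} [CommRing C] [Algebra k C] (g : Spec (CommRingCat.of C) ⟶ Spec (CommRingCat.of k))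
  (hg : g = Spec.map (CommRingCat.ofHom (algebraMap k C)))

/-- A point with values in an algebra. -/
def toPt : WithConv (A →ₐ[k] C) →* (Over.mk g ⟶ GA k A) :=
  MonoidHom.mk' (fun x => (Over.homMk (𝟙 (Spec (CommRingCat.of C))) (by
      subst hg; exact Category.id_comp _) : Over.mk g ⟶ (Spec (CommRingCat.of C)).asOver (Spec (CommRingCat.of k))) ≫
        Spec.mapMulEquiv x)
    fun x y => (congrArg (_ ≫ ·) (map_mul _ x y)).trans (MonObj.comp_mul _ _ _)

theorem toPt_left (x : WithConv (A →ₐ[k] C)) :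
    (toPt g hg x).left = Spec.map (CommRingCat.ofHom x.ofConv.toRingHom) := Category.id_comp _

theorem toPt_injective : Function.Injective (toPt (A := A) g hg) := fun x y h => by
  have h1 := congrArg (fun z => z.left) h
  simp only [toPt_left] at h1
  exact ofConv_injective (AlgHom.coe_ringHom_injective (congrArg CommRingCat.Hom.hom (Spec.map_injective h1)))

theorem toPt_surjective : Function.Surjective (toPt (A := A) g hg) := fun y => by
  let θ : (Spec (CommRingCat.of C)).asOver (Spec (CommRingCat.of k)) ⟶ Over.mk g :=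
    Over.homMk (𝟙 (Spec (CommRingCat.of C))) (by subst hg; exact Category.id_comp _)
  obtain ⟨x, hx⟩ := (Spec.mapMulEquiv (R := k) (S := A) (T := C)).surjective (θ ≫ y)
  refine ⟨x, Over.OverMorphism.ext ?_⟩
  rw [toPt_left]
  exact (congrArg (fun z => z.left) hx).trans (Category.id_comp _)

end Points

/-- The algebra map of a change of the dual coordinate. -/
def dualAlg {C : Type u} [CommRing C] [Algebra k C] (c : C) (hc : c * c = 0) : DualNumber k →ₐ[k] C :=
  { LieS.dualHom (algebraMap k C) c hc with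
    commutes' := fun r => RingHom.congr_fun (LieS.dualHom_comp_algebraMap (algebraMap k C) c hc) r }

theorem dualAlg_apply {C : Type u} [CommRing C] [Algebra k C] (c : C) (hc : c * c = 0) (x : DualNumber k) :
    dualAlg c hc x = algebraMap k C x.fst + algebraMap k C x.snd * c := rfl

theorem dpt_eq : (Spec.map (CommRingCat.ofHom (algebraMap k (DualNumber k))) ≫ bf k) =
    Spec.map (CommRingCat.ofHom (algebraMap k (DualNumber k))) := by
  rw [bf, show CommRingCat.ofHom (algebraMap k k) = 𝟙 (CommRingCat.of k) from rfl, Spec.map_id]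
  exact Category.comp_id _

theorem pt_eq {C : Type u} [CommRing C] [Algebra k C] (h : k →+* C) (hh : h = algebraMap k C) :
    (Spec.map (CommRingCat.ofHom h) ≫ bf k) = Spec.map (CommRingCat.ofHom (algebraMap k C)) := by
  subst hh
  rw [bf, show CommRingCat.ofHom (algebraMap k k) = 𝟙 (CommRingCat.of k) from rfl, Spec.map_id]
  exact Category.comp_id _

/-- A dual number point. -/
abbrev dPt : WithConv (A →ₐ[k] DualNumber k) →* (LieS.dpt k (bf k) ⟶ GA k A) :=
  toPt (Spec.map (CommRingCat.ofHom (algebraMap k (DualNumber k))) ≫ bf k) dpt_eq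

theorem evMap_dPt {C : Type u} [CommRing C] [Algebra k C] (h : k →+* C) (hh : h = algebraMap k C) (c : C)
    (hc : c * c = 0) (x : WithConv (A →ₐ[k] DualNumber k)) :
    evMap (bf k) h c hc ≫ dPt x = toPt _ (pt_eq h hh) (toConv ((dualAlg c hc).comp x.ofConv)) := by
  subst hh
  refine Over.OverMorphism.ext ?_
  show Spec.map _ ≫ (dPt x).left = _
  refine ((congrArg (Spec.map _ ≫ ·) (toPt_left _ dpt_eq x)).trans ?_).trans (toPt_left _ _ _).symm
  exact (Spec.map_comp _ _).symm

/-- The algebra map of a derivation. -/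
def derAlg (φ : A →ₗ[k] k) (hφ : IsDer φ) : A →ₐ[k] DualNumber k :=
  AlgHom.ofLinearMap
    { toFun := fun a => TrivSqZeroExt.inl (counit (R := k) a) + TrivSqZeroExt.inr (φ a)
      map_add' := fun a b => by ext <;> simp
      map_smul' := fun r a => by ext <;> simp }
    (by ext <;> simp [hφ.map_one])
    (fun a b => by ext <;> simp [hφ a b, mul_comm, add_comm])

theorem derAlg_apply (φ : A →ₗ[k] k) (hφ : IsDer φ) (a : A) :
    (derAlg φ hφ a).fst = counit (R := k) a ∧ (derAlg φ hφ a).snd = φ a := by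
  constructor <;> simp [derAlg]

theorem zeroSec_dPt (x : WithConv (A →ₐ[k] DualNumber k)) :
    LieS.zeroSec k (bf k) ≫ dPt x =
      toPt (bf k) rfl (toConv ((TrivSqZeroExt.fstHom k k k).comp x.ofConv)) := by
  refine Over.OverMorphism.ext ?_
  show Spec.map _ ≫ (dPt x).left = _
  refine ((congrArg (Spec.map _ ≫ ·) (toPt_left _ dpt_eq x)).trans ?_).trans (toPt_left _ _ _).symm
  exact (Spec.map_comp _ _).symm

theorem fst_of_mem (x : WithConv (A →ₐ[k] DualNumber k)) (hx : dPt x ∈ LieS.Lie (GA k A) k (bf k)) (a : A) :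
    (x.ofConv a).fst = counit (R := k) a := by
  have h := (LieS.mem_Lie_iff (GA k A) k (bf k) _).1 hx
  rw [zeroSec_dPt, ← map_one (toPt (A := A) (bf k) rfl)] at h
  have h1 := AlgHom.congr_fun (congrArg WithConv.ofConv (toPt_injective _ _ h)) a
  simpa using h1

theorem mem_of_der (φ : A →ₗ[k] k) (hφ : IsDer φ) : dPt (toConv (derAlg φ hφ)) ∈ LieS.Lie (GA k A) k (bf k) := by
  rw [LieS.mem_Lie_iff, zeroSec_dPt, ← map_one (toPt (A := A) (bf k) rfl)]
  congr 1
  refine ofConv_injective (AlgHom.ext fun a => ?_)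
  simp [(derAlg_apply φ hφ a).1]

/-- The functional of a Lie element. -/
def derOf (v : LieS.Lie (GA k A) k (bf k)) : A →ₗ[k] k :=
  (TrivSqZeroExt.sndHom k k) ∘ₗ
    (Function.surjInv (toPt_surjective (A := A) _ dpt_eq) v.1).ofConv.toLinearMap

theorem derOf_dPt (x : WithConv (A →ₐ[k] DualNumber k)) (hx) :
    derOf (⟨dPt x, hx⟩ : LieS.Lie (GA k A) k (bf k)) =
      (TrivSqZeroExt.sndHom k k) ∘ₗ x.ofConv.toLinearMap := by
  rw [derOf, toPt_injective _ _ (Function.surjInv_eq (toPt_surjective (A := A) _ dpt_eq) (dPt x))]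

theorem derOf_one : derOf (1 : LieS.Lie (GA k A) k (bf k)) = 0 := by
  have h : (1 : LieS.Lie (GA k A) k (bf k)) =
      ⟨dPt 1, by rw [map_one]; exact one_mem _⟩ := Subtype.ext (by simp)
  rw [h, derOf_dPt]
  ext a
  simp [TrivSqZeroExt.algebraMap_eq_inl']

theorem dPt_surj (x : LieS.Lie (GA k A) k (bf k)) :
    ∃ X : WithConv (A →ₐ[k] DualNumber k), ∃ hX, x = ⟨dPt X, hX⟩ := by
  obtain ⟨X, hX⟩ := toPt_surjective (A := A) _ dpt_eq x.1
  exact ⟨X, hX.symm ▸ x.2, Subtype.ext hX.symm⟩

/-- The product of two infinitesimal points. -/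
theorem mul_value {C : Type u} [CommRing C] [Algebra k C] (F G : WithConv (A →ₐ[k] C)) (u₁ u₂ v : C)
    (f₁ f₂ g : A →ₗ[k] k)
    (hF : ∀ p, F.ofConv p = algebraMap k C (counit (R := k) p) + algebraMap k C (f₁ p) * u₁ + algebraMap k C (f₂ p) * u₂)
    (hG : ∀ p, G.ofConv p = algebraMap k C (counit (R := k) p) + algebraMap k C (g p) * v) (a : A) :
    (F * G).ofConv a = algebraMap k C (counit (R := k) a) + algebraMap k C (f₁ a) * u₁ + algebraMap k C (f₂ a) * u₂ +
      algebraMap k C (g a) * v + algebraMap k C (conv f₁ g a) * (u₁ * v) + algebraMap k C (conv f₂ g a) * (u₂ * v) := by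
  have key : ∀ q : A ⊗[k] A, Algebra.TensorProduct.lift F.ofConv G.ofConv (fun _ _ => Commute.all _ _) q =
      algebraMap k C (LinearMap.mul' k k (TensorProduct.map counit counit q)) +
      algebraMap k C (LinearMap.mul' k k (TensorProduct.map f₁ counit q)) * u₁ +
      algebraMap k C (LinearMap.mul' k k (TensorProduct.map f₂ counit q)) * u₂ +
      algebraMap k C (LinearMap.mul' k k (TensorProduct.map counit g q)) * v +
      algebraMap k C (LinearMap.mul' k k (TensorProduct.map f₁ g q)) * (u₁ * v) +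
      algebraMap k C (LinearMap.mul' k k (TensorProduct.map f₂ g q)) * (u₂ * v) := by
    intro q
    induction q using TensorProduct.induction_on with
    | zero => simp
    | add p r hp hr => simp only [map_add, hp, hr]; ring
    | tmul p r =>
      rw [Algebra.TensorProduct.lift_tmul, hF, hG]
      simp only [TensorProduct.map_tmul, LinearMap.mul'_apply, map_mul]
      ring
  have hR : ∀ f : A →ₗ[k] k, LinearMap.mul' k k (TensorProduct.map f counit (comul (R := k) a)) = f a := fun f => by
    rw [← LinearMap.rTensor_comp_lTensor, LinearMap.comp_apply, Coalgebra.lTensor_counit_comul,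
      LinearMap.rTensor_tmul, LinearMap.mul'_apply, _root_.mul_one]
  have hL : LinearMap.mul' k k (TensorProduct.map counit g (comul (R := k) a)) = g a := by
    rw [← LinearMap.lTensor_comp_rTensor, LinearMap.comp_apply, Coalgebra.rTensor_counit_comul,
      LinearMap.lTensor_tmul, LinearMap.mul'_apply, _root_.one_mul]
  rw [AlgHom.convMul_apply]
  exact (key _).trans (by rw [hR, hR, hR, hL]; rfl)

/-- The commutator in two infinitesimal coordinates is the commutator of derivations. -/
theorem derOf_commutator {C : Type u} [CommRing C] [Algebra k C] (h : k →+* C) (hh : h = algebraMap k C) (c d : C)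
    (hc : c * c = 0) (hd : d * d = 0) (hcd : c * d * (c * d) = 0) (co : C →+ k)
    (hco : ∀ (r : k) (t : C), co (algebraMap k C r * t) = r * co t) (h1 : co 1 = 0) (hcc : co c = 0)
    (hdd : co d = 0) (hcd1 : co (c * d) = 1) (x y : LieS.Lie (GA k A) k (bf k)) :
    derOf (br x y) = adD (derOf x) (derOf y) := by
  have e := ev_br (f := bf k) h c d (c * d) hc hd hcd rfl x y
  generalize br x y = z at e ⊢
  subst hh
  obtain ⟨X, hX, rfl⟩ := dPt_surj x
  obtain ⟨Y, hY, rfl⟩ := dPt_surj y
  obtain ⟨Z, hZ, rfl⟩ := dPt_surj z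
  have hev : ∀ (c' : C) (hc' : c' * c' = 0) (V : WithConv (A →ₐ[k] DualNumber k)) (hV),
      Groth.Agent.Lib.LieS.Bracket.ev (bf k) (algebraMap k C) c' hc'
        (⟨dPt V, hV⟩ : LieS.Lie (GA k A) k (bf k)) =
        toPt _ (pt_eq (algebraMap k C) rfl) (toConv ((dualAlg c' hc').comp V.ofConv)) :=
    fun c' hc' V hV => evMap_dPt _ rfl c' hc' V
  have hrel : toConv ((dualAlg (c * d) hcd).comp Z.ofConv) * toConv ((dualAlg d hd).comp Y.ofConv) *
      toConv ((dualAlg c hc).comp X.ofConv) =
      toConv ((dualAlg c hc).comp X.ofConv) * toConv ((dualAlg d hd).comp Y.ofConv) := by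
    refine toPt_injective _ (pt_eq (algebraMap k C) rfl) ?_
    simp only [map_mul]
    rw [← hev c hc X hX, ← hev d hd Y hY, ← hev (c * d) hcd Z hZ, e]
  rw [derOf_dPt, derOf_dPt, derOf_dPt]
  refine LinearMap.ext fun a => ?_
  have hf : ∀ (V : WithConv (A →ₐ[k] DualNumber k)) (hV : dPt V ∈ LieS.Lie (GA k A) k (bf k)) (u : C) (hu : u * u = 0) (p : A),
      (dualAlg u hu).comp V.ofConv p = algebraMap k C (counit (R := k) p) +
        algebraMap k C (((TrivSqZeroExt.sndHom k k) ∘ₗ V.ofConv.toLinearMap) p) * u +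
        algebraMap k C ((0 : A →ₗ[k] k) p) * 0 := fun V hV u hu p => by
    rw [AlgHom.comp_apply, dualAlg_apply, fst_of_mem V hV]
    simp
  set dX := (TrivSqZeroExt.sndHom k k) ∘ₗ X.ofConv.toLinearMap
  set dY := (TrivSqZeroExt.sndHom k k) ∘ₗ Y.ofConv.toLinearMap
  set dZ := (TrivSqZeroExt.sndHom k k) ∘ₗ Z.ofConv.toLinearMap
  have hg : ∀ (V : WithConv (A →ₐ[k] DualNumber k)) (hV : dPt V ∈ LieS.Lie (GA k A) k (bf k)) (u : C) (hu : u * u = 0) (p : A),
      (dualAlg u hu).comp V.ofConv p = algebraMap k C (counit (R := k) p) +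
        algebraMap k C (((TrivSqZeroExt.sndHom k k) ∘ₗ V.ofConv.toLinearMap) p) * u := fun V hV u hu p => by
    rw [hf V hV u hu p]
    simp
  have hW : ∀ p : A, (toConv ((dualAlg (c * d) hcd).comp Z.ofConv) * toConv ((dualAlg d hd).comp Y.ofConv)).ofConv p =
      algebraMap k C (counit (R := k) p) + algebraMap k C (dZ p) * (c * d) + algebraMap k C (dY p) * d := fun p => by
    refine (mul_value (toConv ((dualAlg (c * d) hcd).comp Z.ofConv)) (toConv ((dualAlg d hd).comp Y.ofConv))
      (c * d) 0 d dZ 0 dY (fun p => hf Z hZ _ _ p) (fun p => hg Y hY d hd p) p).trans ?_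
    simp [_root_.mul_assoc, hd]
  have h4 : co _ = co _ := congrArg co
    (((mul_value _ (toConv ((dualAlg c hc).comp X.ofConv)) (c * d) d c dZ dY dX hW (fun p => hg X hX c hc p) a).symm.trans
      (congrArg (fun F : WithConv (A →ₐ[k] C) => F.ofConv a) hrel)).trans
      (mul_value (toConv ((dualAlg c hc).comp X.ofConv)) (toConv ((dualAlg d hd).comp Y.ofConv))
        c 0 d dX 0 dY (fun p => hf X hX c hc p) (fun p => hg Y hY d hd p) a))
  have hc0 : co (c * d * c) = 0 := by
    rw [show c * d * c = (c * c) * d by ring, hc, zero_mul, map_zero]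
  simp only [map_add, hco, hcc, hdd, hcd1, hc0, mul_comm d c, map_zero, mul_zero, zero_mul, add_zero,
    _root_.mul_one] at h4
  have hε : co (algebraMap k C (counit (R := k) a)) = 0 := by
    rw [← _root_.mul_one (algebraMap k C _), hco, h1, mul_zero]
  simp only [hε, zero_add] at h4
  show dZ a = conv dX dY a - conv dY dX a
  linear_combination h4

theorem derOf_bracket (x y z : LieS.Lie (GA k A) k (bf k)) (h : LieS.IsBracket (GA k A) k (bf k) x y z) :
    derOf z = adD (derOf x) (derOf y) := by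
  rw [bracket_unique x y z (br x y) h (isBracket_br x y)]
  let co : DualNumber k ⊗[k] DualNumber k →ₗ[k] k :=
    LinearMap.mul' k k ∘ₗ TensorProduct.map (TrivSqZeroExt.sndHom k k) (TrivSqZeroExt.sndHom k k)
  refine derOf_commutator (C := DualNumber k ⊗[k] DualNumber k) (algebraMap k _) rfl
    (DualNumber.eps ⊗ₜ[k] (1 : DualNumber k)) ((1 : DualNumber k) ⊗ₜ[k] DualNumber.eps) ?_ ?_ ?_ co.toAddMonoidHom
    (fun r t => ?_) ?_ ?_ ?_ ?_ x y
  · simp
  · simp
  · simp
  · rw [LinearMap.toAddMonoidHom_coe, ← Algebra.smul_def, map_smul, smul_eq_mul]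
  · simp [co, Algebra.TensorProduct.one_def]
  · simp [co]
  · simp [co]
  · simp [co]

variable {L : Type u} [LieRing L] [LieAlgebra k L]

/-- Over a nilpotent Lie algebra the commutators of derivations are nilpotent. -/
theorem adD_nilpotent (m : LieS.Model (GA k A) k (bf k) L) (hL : LieRing.IsNilpotent L) {ξ φ : A →ₗ[k] k}
    (hξ : IsDer ξ) (hφ : IsDer φ) : ∃ N, (adD ξ)^[N] φ = 0 := by
  haveI : LieModule.IsNilpotent L L := hL
  obtain ⟨N, hN⟩ := LieModule.exists_forall_pow_toEnd_eq_zero k L L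
  let x : L := (m.e.symm ⟨_, mem_of_der ξ hξ⟩).toAdd
  let y : L := (m.e.symm ⟨_, mem_of_der φ hφ⟩).toAdd
  have hd : ∀ (ψ : A →ₗ[k] k) (hψ : IsDer ψ),
      derOf (m.e (Multiplicative.ofAdd (m.e.symm ⟨_, mem_of_der ψ hψ⟩).toAdd)) = ψ := fun ψ hψ => by
    rw [ofAdd_toAdd, MulEquiv.apply_symm_apply, derOf_dPt]
    exact LinearMap.ext fun a => (derAlg_apply ψ hψ a).2
  have hit : ∀ n, derOf (m.e (Multiplicative.ofAdd ((LieModule.toEnd k L L x ^ n) y))) = (adD ξ)^[n] φ := by
    intro n
    induction n with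
    | zero => rw [pow_zero, Module.End.one_apply]; exact hd φ hφ
    | succ n ih =>
      rw [pow_succ', Module.End.mul_apply, LieModule.toEnd_apply_apply, Function.iterate_succ_apply', ← ih,
        derOf_bracket _ _ _ (m.e_lie _ _), hd ξ hξ]
  refine ⟨N, ?_⟩
  rw [← hit N, hN, LinearMap.zero_apply, ofAdd_zero, map_one, derOf_one]

end

end Groth.Agent.H66.LieWt
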