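import Groth.Agent.H66.LieWt.RootBridge
import Groth.Agent.H1.Classical.CentralTorus
import Groth.Agent.H1.Classical.CentralTorusRed
import Groth.Agent.H66.Vec.FactorScheme
import Groth.Agent.H60.OrbDim.Apply
import Groth.Agent.Lib.SmWeil.CartanAux
import Groth.Agent.Lib.DiagGL.Points
import Groth.Agent.Lib.GrpQ.MonoClosed

/-!
Coordinates for a split maximal torus of a reductive group.
-/

set_option autoImplicit false

universe u

open CategoryTheory Limits MonoidalCategory CartesianMonoidalCategory MonObj GrpObj AlgebraicGeometry TensorProduct WithConv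
  Groth.Agent.H1.Classical Groth.Agent.H1.Classical.Scheme' Groth.Agent.Lib.RedPts Groth.Agent.Lib.RedPts.Points
  Groth.Agent.Lib.GrpSch Groth.Agent.H66.Weyl

attribute [local instance] Groth.Agent.Lib.RedPts.Points.baseAlgebra

namespace Groth.Agent.H66.LieWt

set_option linter.style.haveILetI false
set_option linter.unusedSectionVars false

noncomputable section

variable {k : Type u} [Field k]

theorem connectedSpace_of_isTorus {T : Over (Spec (CommRingCat.of k))} [GrpObj T] (hT : Red.IsTorus T) :
    ConnectedSpace T.left := by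
  let K := AlgebraicClosure k
  have hT' : Red.IsTorus (Red.bc (extBase k K) T) := Groth.Agent.Lib.Tori.Basic.isTorus_bc hT _
  haveI := Groth.Agent.Lib.Tori.Basic.smooth_of_isTorus hT'
  haveI : IsAffineHom (Red.bc (extBase k K) T).hom := Groth.Agent.Lib.Tori.Basic.isAffineHom_of_isTorus hT'
  haveI : IsAffine (Red.bc (extBase k K) T).left := isAffine_of_isAffineHom (Red.bc (extBase k K) T).hom
  have hc : ConnectedSpace ↥(pullback T.hom (extBase k K)) := (TorusPts.torus_props (𝟙 _) hT').2.2.1
  haveI : Surjective (extBase k K) :=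
    ⟨fun z => ⟨IsLocalRing.closedPoint _, Subsingleton.elim (α := PrimeSpectrum k) _ _⟩⟩
  haveI : Surjective (pullback.fst T.hom (extBase k K)) :=
    MorphismProperty.pullback_fst (P := @Surjective) _ _ inferInstance
  exact (pullback.fst T.hom (extBase k K)).surjective.connectedSpace (pullback.fst T.hom (extBase k K)).continuous

theorem finiteType_of_iso' {G : Over (Spec (CommRingCat.of k))} [LocallyOfFiniteType G.hom] {A : Type u} [CommRing A]
    [HopfAlgebra k A] (e : G ≅ GA k A) : Algebra.FiniteType k A := by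
  haveI : IsIso e.inv.left := ((Over.forget _).mapIso e).isIso_inv
  exact H1.Hopf.finiteType_of_locallyOfFiniteType (by rw [← Over.w e.inv]; infer_instance)

theorem isDomain_of_smooth_connected {G : Over (Spec (CommRingCat.of k))} [GrpObj G] [Smooth G.hom]
    [ConnectedSpace G.left] {A : Type u} [CommRing A] [HopfAlgebra k A] (e : G ≅ GA k A) [IsMonHom e.hom] :
    IsDomain A := by
  haveI : IsIso e.inv.left := ((Over.forget _).mapIso e).isIso_inv
  haveI : IsIso e.hom.left := ((Over.forget _).mapIso e).isIso_hom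
  haveI : Smooth (GA k A).hom := by rw [← Over.w e.inv]; infer_instance
  haveI : ConnectedSpace (GA k A).left := e.hom.left.surjective.connectedSpace e.hom.left.continuous
  haveI : Algebra.FiniteType k A := finiteType_of_iso' e
  haveI := (CentralTorus.bc_ga_props (k := k) (A := A) (K := AlgebraicClosure k)).1
  exact Function.Injective.isDomain (Algebra.TensorProduct.includeRight : A →ₐ[k] AlgebraicClosure k ⊗[k] A).toRingHom
    (Algebra.TensorProduct.includeRight_injective (algebraMap k (AlgebraicClosure k)).injective)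

theorem exists_mulEquiv_lat {H : Type} [CommGroup H] [Group.FG H] [IsDomain (MonoidAlgebra k H)] :
    ∃ r, Nonempty (H ≃* Lat r) := by
  classical
  have htf : ∀ (g : H) (n : ℕ), n ≠ 0 → g ^ n = 1 → g = 1 := by
    intro g n hn hgn
    by_contra hg
    have hn' : 0 < orderOf g := orderOf_pos_iff.2 (isOfFinOrder_iff_pow_eq_one.2 ⟨n, Nat.pos_of_ne_zero hn, hgn⟩)
    let x : MonoidAlgebra k H := MonoidAlgebra.single g 1
    have h1 : (∑ i ∈ Finset.range (orderOf g), x ^ i) * (x - 1) = 0 := by
      rw [geom_sum_mul, MonoidAlgebra.single_pow, pow_orderOf_eq_one, one_pow, ← MonoidAlgebra.one_def, sub_self]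
    rcases mul_eq_zero.1 h1 with h2 | h2
    · have h3 := congrArg (fun y : MonoidAlgebra k H => y.coeff 1) h2
      simp only [x, MonoidAlgebra.single_pow, one_pow, MonoidAlgebra.coeff_sum, Finsupp.finsetSum_apply,
        MonoidAlgebra.coeff_single, MonoidAlgebra.coeff_zero, Finsupp.zero_apply] at h3
      rw [Finset.sum_eq_single 0 (fun i hi hi0 => Finsupp.single_eq_of_ne' (pow_ne_one_of_lt_orderOf hi0 (Finset.mem_range.1 hi)))
        (fun h => absurd (Finset.mem_range.2 hn') h), pow_zero, Finsupp.single_eq_same] at h3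
      exact one_ne_zero h3
    · rw [sub_eq_zero, MonoidAlgebra.one_def] at h2
      have h3 := congrArg (fun y : MonoidAlgebra k H => y.coeff g) h2
      simp [x, Finsupp.single_apply, hg, Ne.symm hg] at h3
  haveI : AddGroup.FG (Additive H) := GroupFG.iff_add_fg.mp inferInstance
  haveI : Module.Finite ℤ (Additive H) := Module.Finite.iff_addGroup_fg.mpr inferInstance
  haveI : IsAddTorsionFree (Additive H) := ⟨fun n hn a b hab => by
    have : (Additive.toMul (a - b)) ^ n = 1 := by
      rw [← toMul_nsmul, nsmul_sub]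
      simp only at hab
      rw [hab, sub_self]
      rfl
    exact sub_eq_zero.mp (Additive.toMul.injective (htf _ n hn this))⟩
  let E : Additive H ≃+ (Fin _ → ℤ) := (Module.finBasis ℤ (Additive H)).equivFun.toAddEquiv
  exact ⟨_, ⟨E.toMultiplicativeRight⟩⟩

/-- The isomorphism of group schemes of an isomorphism of character groups. -/
def latIso {H H' : Type} [CommGroup H] [CommGroup H'] (f : H ≃* H') :
    GA k (MonoidAlgebra k H') ≅ GA k (MonoidAlgebra k H) where
  hom := specHom (MonoidAlgebra.mapDomainBialgHom k f.toMonoidHom)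
  inv := specHom (MonoidAlgebra.mapDomainBialgHom k f.symm.toMonoidHom)
  hom_inv_id := by
    refine algHomOf_injective (MonoidAlgebra.algHom_ext (fun h => ?_) (by ext))
    conv_lhs => rw [← Category.id_comp (specHom (MonoidAlgebra.mapDomainBialgHom k f.toMonoidHom)), Category.assoc]
    rw [← Category.assoc, algHomOf_specHom, algHomOf_specHom, MonoidAlgebra.mapDomainBialgHom_single,
      MonoidAlgebra.mapDomainBialgHom_single]
    simp
  inv_hom_id := by
    refine algHomOf_injective (MonoidAlgebra.algHom_ext (fun h => ?_) (by ext))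
    conv_lhs => rw [← Category.id_comp (specHom (MonoidAlgebra.mapDomainBialgHom k f.symm.toMonoidHom)), Category.assoc]
    rw [← Category.assoc, algHomOf_specHom, algHomOf_specHom, MonoidAlgebra.mapDomainBialgHom_single,
      MonoidAlgebra.mapDomainBialgHom_single]
    simp

/-- A split maximal torus of a reductive group is given by a map of Hopf algebras. -/
theorem exists_coords {G T : Over (Spec (CommRingCat.of k))} [GrpObj G] [GrpObj T] (hG : Red.IsReductive G) (i : T ⟶ G)
    (hT : Red.IsMaximalTorus i) {M : Type} [AddCommGroup M] (hM : Red.IsSplitTorusWith M T) :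
    ∃ (A : Type u) (_ : CommRing A) (_ : HopfAlgebra k A) (_ : Algebra.FiniteType k A) (_ : IsDomain A) (r : ℕ)
      (π : A →ₐc[k] MonoidAlgebra k (Lat r)) (e : G ≅ GA k A) (d : GA k (MonoidAlgebra k (Lat r)) ≅ T),
      IsMonHom e.hom ∧ IsMonHom d.hom ∧ Function.Surjective π ∧ Red.IsReductive (GA k A) ∧
        Red.IsMaximalTorus (specHom π) ∧ specHom π = d.hom ≫ i ≫ e.hom := by
  haveI : IsAffineHom G.hom := hG.1
  haveI : Smooth G.hom := hG.2.1
  haveI : IsAffine G.left := isAffine_of_isAffineHom G.hom
  haveI := Groth.Agent.H60.OrbDim.connectedSpace_of_isReductive hG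
  haveI := hT.1
  haveI := hT.2.1
  haveI := Groth.Agent.Lib.Tori.Basic.smooth_of_isTorus hT.2.2.1
  haveI := Groth.Agent.Lib.Tori.Basic.isAffineHom_of_isTorus hT.2.2.1
  haveI : IsAffine T.left := isAffine_of_isAffineHom T.hom
  haveI := connectedSpace_of_isTorus hT.2.2.1
  obtain ⟨A, _, _, e, he⟩ := H1.Hopf.exists_iso G
  haveI := he
  haveI : Algebra.FiniteType k A := finiteType_of_iso' e
  haveI : IsDomain A := isDomain_of_smooth_connected e
  obtain ⟨ψ⟩ := hM
  let d₀ : T ≅ GA k (MonoidAlgebra k (Multiplicative M)) :=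
    (Grp.forget _).mapIso ψ ≪≫ Groth.Agent.Lib.DiagGL.dsDiag k M
  haveI : IsMonHom d₀.hom := by
    haveI : IsMonHom ψ.hom.hom.hom := ψ.hom.hom.isMonHom_hom
    show IsMonHom (ψ.hom.hom.hom ≫ (Groth.Agent.Lib.DiagGL.dsDiag k M).hom)
    infer_instance
  haveI : Algebra.FiniteType k (MonoidAlgebra k (Multiplicative M)) := finiteType_of_iso' d₀
  haveI : Group.FG (Multiplicative M) := MonoidAlgebra.finiteType_iff_group_fg.1 ‹_›
  haveI : IsDomain (MonoidAlgebra k (Multiplicative M)) := isDomain_of_smooth_connected d₀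
  obtain ⟨r, ⟨f⟩⟩ := exists_mulEquiv_lat (k := k) (H := Multiplicative M)
  let d : GA k (MonoidAlgebra k (Lat r)) ≅ T := latIso f ≪≫ d₀.symm
  haveI : IsMonHom d.hom := by
    haveI : IsMonHom d₀.inv := inferInstance
    show IsMonHom (specHom _ ≫ d₀.inv)
    infer_instance
  obtain ⟨π, hπ⟩ := H66.Vec.exists_bialgHom (d.hom ≫ i ≫ e.hom)
  haveI : Smooth (GA k A).hom := by
    haveI : IsIso e.inv.left := ((Over.forget _).mapIso e).isIso_inv
    rw [← Over.w e.inv]; infer_instance
  haveI : Algebra.FiniteType k (MonoidAlgebra k (Lat r)) := inferInstance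
  haveI : LocallyOfFiniteType (GA k A).hom := inferInstance
  haveI : LocallyOfFiniteType (GA k (MonoidAlgebra k (Lat r))).hom := by
    haveI : IsIso d.hom.left := ((Over.forget _).mapIso d).isIso_hom
    rw [← Over.w d.hom]; infer_instance
  haveI : IsMonHom d.symm.hom := inferInstanceAs (IsMonHom d.inv)
  replace hπ : specHom π = d.hom ≫ i ≫ e.hom := hπ
  have hT' : Red.IsMaximalTorus (specHom π) :=
    Groth.Agent.Lib.SmWeil.CartanAux.isMaximalTorus_congr e d.symm he ‹_›
      (by rw [hπ, Iso.symm_hom, Iso.inv_hom_id_assoc]) hT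
  haveI := hT'.2.1
  haveI : IsClosedImmersion (specHom π).left := Groth.Agent.Lib.GrpQ.MonoClosed.isClosedImmersion_of_mono (specHom π)
  exact ⟨A, _, _, inferInstance, inferInstance, r, π, e, d, he, inferInstance,
    H66.Vec.surjective_of_isClosedImmersion ‹IsClosedImmersion (specHom π).left›, CentralTorusRed.isReductive_congr e hG, hT', hπ⟩

end

end Groth.Agent.H66.LieWt
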