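import Groth.Agent.H66.LieWt.Bracket
import Groth.Agent.H66.Vec.FactorScheme
import Groth.Agent.H1.Classical.TorusPts
import Groth.Agent.H1.Classical.MaxTorusApply
import Groth.Agent.Lib.DiagGL.Points
import Groth.Agent.Lib.Tori.Character
import Groth.Prelude.Def_SGA3x

/-!
A connected group with nilpotent Lie algebra and trivial reductive centre has no torus.
-/

set_option autoImplicit false

universe u

open CategoryTheory MonoidalCategory CartesianMonoidalCategory MonObj GrpObj AlgebraicGeometry TensorProduct WithConv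
  Coalgebra Groth.Agent.H1.Classical Groth.Agent.H1.Classical.Scheme' Groth.Agent.Lib.RedPts Groth.Agent.Lib.RedPts.Points
  Groth.Agent.H1.Classical.Words

attribute [local instance] Groth.Agent.Lib.RedPts.Points.baseAlgebra

namespace Groth.Agent.H66.LieWt

set_option linter.style.haveILetI false
set_option linter.unusedSectionVars false

noncomputable section

variable {k : Type u} [Field k]

/-- The algebra of group-likes of a diagonalisable algebra. -/
theorem exists_groupAlgebra {B : Type u} [CommRing B] [HopfAlgebra k B] (h : HopfRep.IsDiagonalizable k B) :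
    Nonempty (B ≃ₐc[k] MonoidAlgebra k (GroupLike k B)) := by
  let f : GroupLike k B →* B := { toFun := fun g => (g : B), map_one' := rfl, map_mul' := fun _ _ => rfl }
  let Φ : MonoidAlgebra k (GroupLike k B) →ₐ[k] B := MonoidAlgebra.lift k B _ f
  have hli := linearIndep_groupLikeVal (R := k) (A := B)
  have hΦ : Function.Bijective Φ := by
    refine ⟨?_, fun a => ?_⟩
    · rw [injective_iff_map_eq_zero]
      intro x hx
      have hz : Finsupp.linearCombination k (fun g : GroupLike k B => (g : B)) x.coeff = 0 := by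
        rw [← hx, Finsupp.linearCombination_apply]
        simp [Φ, f, MonoidAlgebra.lift_apply]
      exact MonoidAlgebra.coeff_injective (linearIndependent_iff.mp hli _ hz)
    · have : (⊤ : Submodule k B) ≤ LinearMap.range Φ.toLinearMap := by
        rw [← h, Submodule.span_le]
        intro g hg
        exact ⟨MonoidAlgebra.single ⟨g, hg⟩ 1, by simp [Φ, f]⟩
      exact this trivial
  have hs : ∀ g : GroupLike k B, Φ (MonoidAlgebra.single g 1) = (g : B) := fun g => by simp [Φ, f]
  refine ⟨(BialgEquiv.ofAlgEquiv (AlgEquiv.ofBijective Φ hΦ) ?_ ?_).symm⟩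
  · refine MonoidAlgebra.algHom_ext (fun g => ?_) (by ext)
    show Bialgebra.counitAlgHom k B (Φ (MonoidAlgebra.single g 1)) = Bialgebra.counitAlgHom k _ (MonoidAlgebra.single g 1)
    rw [hs]
    simp [g.isGroupLikeElem_val.counit_eq_one]
  · refine MonoidAlgebra.algHom_ext (fun g => ?_) (by ext)
    show Algebra.TensorProduct.map Φ Φ (comul (R := k) (MonoidAlgebra.single g 1 : MonoidAlgebra k (GroupLike k B))) =
      comul (R := k) (Φ (MonoidAlgebra.single g 1))
    rw [MonoidAlgebra.comul_single, hs, g.isGroupLikeElem_val.comul_eq_tmul_self]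
    simp [hs]

/-- Points commute with the image of the kernel of the weights. -/
theorem commute_of_central {A : Type u} [CommRing A] [HopfAlgebra k A] {M : Type u} {Q : Type*} [CommGroup M] [CommGroup Q]
    (π : A →ₐc[k] MonoidAlgebra k M) (q : M →* Q)
    (hc : ∀ a, MonoidAlgebra.mapDomain q (cj π a) = MonoidAlgebra.single 1 a) {Γ : Type u} [CommRing Γ] [Algebra k Γ]
    (gm : A →ₐ[k] Γ) (χ : MonoidAlgebra k Q →ₐ[k] Γ) :
    toConv gm * toConv (χ.comp ((MonoidAlgebra.mapDomainBialgHom k q).comp π : A →ₐc[k] MonoidAlgebra k Q)) =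
      toConv (χ.comp ((MonoidAlgebra.mapDomainBialgHom k q).comp π : A →ₐc[k] MonoidAlgebra k Q)) * toConv gm := by
  let F : MonoidAlgebra A M →ₐ[k] Γ :=
    MonoidAlgebra.liftNCAlgHom gm
      (((χ : MonoidAlgebra k Q →* Γ).comp (MonoidAlgebra.of k Q)).comp q) fun _ _ => Commute.all _ _
  have hF : ∀ (m : M) (b : A), F (MonoidAlgebra.single m b) = gm b * χ (MonoidAlgebra.single (q m) 1) := fun m b => by
    simp [F, MonoidAlgebra.liftNCAlgHom, MonoidAlgebra.liftNCRingHom]
  have hg : push F (toConv (incl A M)) = toConv gm := by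
    refine congrArg toConv (AlgHom.ext fun a => ?_)
    show F (MonoidAlgebra.single (1 : M) a) = gm a
    rw [hF, map_one, ← MonoidAlgebra.one_def, map_one, _root_.mul_one]
  have ht : push F (toConv (tor π)) =
      toConv (χ.comp ((MonoidAlgebra.mapDomainBialgHom k q).comp π : A →ₐc[k] MonoidAlgebra k Q)) := by
    refine congrArg toConv (AlgHom.ext fun a => ?_)
    show F (iota (π a)) = χ (MonoidAlgebra.mapDomainBialgHom k q (π a))
    generalize (π a : MonoidAlgebra k M) = z
    induction z using MonoidAlgebra.induction_linear with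
    | zero => simp
    | add x y hx hy => simp only [map_add, hx, hy]
    | single m r =>
      rw [iota_single, hF, AlgHom.commutes, MonoidAlgebra.mapDomainBialgHom_single, ← Algebra.smul_def, ← map_smul,
        MonoidAlgebra.smul_single, smul_eq_mul, _root_.mul_one]
  have hcj : push F (toConv (cj π)) = toConv gm := by
    refine congrArg toConv (AlgHom.ext fun a => ?_)
    show F (cj π a) = gm a
    let G : MonoidAlgebra A Q →ₐ[k] Γ :=
      MonoidAlgebra.liftNCAlgHom gm ((χ : MonoidAlgebra k Q →* Γ).comp (MonoidAlgebra.of k Q)) fun _ _ => Commute.all _ _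
    have hG : ∀ y : MonoidAlgebra A M, F y = G (MonoidAlgebra.mapDomain q y) := by
      intro y
      induction y using MonoidAlgebra.induction_linear with
      | zero => simp
      | add x y hx hy => simp only [map_add, MonoidAlgebra.mapDomain_add, hx, hy]
      | single m b =>
        rw [hF, MonoidAlgebra.mapDomain_single]
        simp [G, MonoidAlgebra.liftNCAlgHom, MonoidAlgebra.liftNCRingHom]
    rw [hG, hc]
    simp [G, MonoidAlgebra.liftNCAlgHom, MonoidAlgebra.liftNCRingHom, ← MonoidAlgebra.one_def]
  have h := congrArg (push F) (cj_mul π)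
  rw [map_mul, map_mul, hcj, ht, hg] at h
  exact h

/-- The group-likes of a domain are torsion free. -/
theorem isAddTorsionFree_groupLike [IsAlgClosed k] {B : Type u} [CommRing B] [HopfAlgebra k B] [IsDomain B] :
    IsAddTorsionFree (Additive (GroupLike k B)) := by
  refine ⟨fun n hn a b hab => ?_⟩
  have h : (Additive.toMul (a - b)) ^ n = 1 := by
    rw [← toMul_nsmul, nsmul_sub]
    simp only at hab
    rw [hab, sub_self]
    rfl
  set g := Additive.toMul (a - b) with hg
  have hpow : (g : B) ^ n = 1 := by rw [← GroupLike.val_pow, h, GroupLike.val_one]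
  have hint : IsIntegral k (g : B) :=
    ⟨Polynomial.X ^ n - Polynomial.C 1, Polynomial.monic_X_pow_sub_C 1 hn, by simp [hpow]⟩
  obtain ⟨ζ, hζ⟩ := minpoly.mem_range_of_degree_eq_one k (g : B)
    (IsAlgClosed.degree_eq_one_of_irreducible k (minpoly.irreducible hint))
  have h1 : counit (R := k) (g : B) = ζ := by
    rw [← hζ]
    simp
  rw [g.isGroupLikeElem_val.counit_eq_one] at h1
  have hg1 : g = 1 := by
    ext
    rw [← hζ, ← h1, map_one, GroupLike.val_one]
  exact sub_eq_zero.mp (Additive.toMul.injective (hg ▸ hg1))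

/-- A diagonalisable group is of multiplicative type. -/
theorem isMultTypeFT_GA (M : Type) [AddCommGroup M] [AddGroup.FG M] :
    SGA3x.IsMultTypeFT (GA k (MonoidAlgebra k (Multiplicative M))) := by
  have hd : Grp.mk (Red.diag k M) ≅ Grp.mk (Red.DS (Spec (CommRingCat.of k)) M) :=
    (Groth.Agent.Lib.Tori.BaseChange.grpIso (Groth.Agent.Lib.DiagGL.dsDiag k M)).symm
  obtain ⟨S', f, hf, hs, hc, hloc⟩ := Groth.Agent.Lib.Tori.Character.isMultTypeFT_DS (Spec (CommRingCat.of k)) M
  refine ⟨S', f, hf, hs, hc, fun s' => ?_⟩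
  obtain ⟨U, hU, M', _, hM', ⟨i⟩⟩ := hloc s'
  exact ⟨U, hU, M', inferInstance, hM', ⟨Groth.Agent.Lib.Tori.BaseChange.bcMapIso _ hd ≪≫ i⟩⟩

/-- Transport of a model along an isomorphism. -/
theorem exists_model_congr {G G' : Over (Spec (CommRingCat.of k))} [GrpObj G] [GrpObj G'] (e : G ≅ G') [IsMonHom e.hom]
    {L : Type u} [LieRing L] [LieAlgebra k L] (m : LieS.Model G k (bf k) L) : Nonempty (LieS.Model G' k (bf k) L) := by
  let E : LieS.Lie G k (bf k) ≃* LieS.Lie G' k (bf k) :=
    { LieS.map k (bf k) e.hom with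
      invFun := LieS.map k (bf k) e.inv
      left_inv := fun v => Subtype.ext ((Category.assoc _ _ _).trans (by rw [e.hom_inv_id]; first | done | exact Category.comp_id _))
      right_inv := fun v => Subtype.ext ((Category.assoc _ _ _).trans (by rw [e.inv_hom_id]; first | done | exact Category.comp_id _)) }
  refine ⟨⟨m.e.trans E, fun b x => ?_, fun x y => ?_⟩⟩
  · rw [MulEquiv.trans_apply, m.e_smul]
    refine Subtype.ext ?_
    show (LieS.scale k (bf k) b ≫ _) ≫ e.hom = LieS.scale k (bf k) b ≫ (_ ≫ e.hom)
    exact Category.assoc _ _ _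
  · have h := congrArg (· ≫ e.hom) (m.e_lie x y)
    simp only [MonObj.mul_comp, GrpObj.inv_comp, Category.assoc] at h
    exact h

variable [IsAlgClosed k]

/-- A connected group with nilpotent Lie algebra and trivial reductive centre has no torus. -/
theorem hasNoSubtorus (G : Over (Spec (CommRingCat.of k))) [GrpObj G] [IsAffine G.left] [Smooth G.hom]
    [ConnectedSpace G.left]
    (hZ : ∀ (Z : Over (Spec (CommRingCat.of k))) [GrpObj Z] (z : Z ⟶ G) [IsMonHom z] [Mono z], SGA3x.IsMultTypeFT Z →
      (∀ (X : Over (Spec (CommRingCat.of k))) (x : X ⟶ Z) (g : X ⟶ G), (x ≫ z) * g = g * (x ≫ z)) → Red.IsTrivialGrp Z)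
    {L : Type u} [LieRing L] [LieAlgebra k L] (m : LieS.Model G k (bf k) L) (hL : LieRing.IsNilpotent L) :
    Red.HasNoSubtorus k G := by
  intro T _ j _ _ hT
  classical
  obtain ⟨A, _, _, _, _, e, he⟩ := MaxTorusApply.exists_GA G
  haveI := he
  haveI : IsMonHom e.inv := inferInstance
  haveI : IsNoetherianRing A := Algebra.FiniteType.isNoetherianRing k A
  obtain ⟨m'⟩ := exists_model_congr e m
  haveI := MaxTorusScheme.locallyOfFiniteType (k := k) (A := A)
  obtain ⟨hcl, hsm, -, haff⟩ := TorusPts.torus_props (j ≫ e.hom) hT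
  haveI := hcl
  haveI := hsm
  haveI := haff
  obtain ⟨A', _, _, e', he'⟩ := H1.Hopf.exists_iso T
  haveI := he'
  haveI : IsMonHom e'.inv := inferInstance
  haveI : Algebra.FiniteType k A' := finiteType_of_iso e'
  have hT' := Groth.Agent.Lib.Tori.Basic.isTorus_congr (Groth.Agent.Lib.Tori.BaseChange.grpIso e').symm hT
  haveI := TorusSplit.isDomain_of_isTorus hT'
  obtain ⟨Φ⟩ := exists_groupAlgebra (TorusSplit.isDiag_of_isTorus hT')
  let M := GroupLike k A'
  haveI : IsIso e'.inv.left := ((Over.forget _).mapIso e').isIso_inv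
  haveI : IsClosedImmersion (e'.inv ≫ j ≫ e.hom).left := by rw [Over.comp_left]; infer_instance
  obtain ⟨π₀, hπ₀⟩ := H66.Vec.exists_bialgHom (e'.inv ≫ j ≫ e.hom)
  have hπs : Function.Surjective π₀ := H66.Vec.surjective_of_isClosedImmersion (by
    rw [hπ₀]; infer_instance)
  let π : A →ₐc[k] MonoidAlgebra k M := (Φ : A' →ₐc[k] MonoidAlgebra k M).comp π₀
  haveI : Algebra.FiniteType k (MonoidAlgebra k M) :=
    Algebra.FiniteType.of_surjective (Φ : A' →ₐc[k] MonoidAlgebra k M).toAlgHom Φ.surjective
  haveI : Monoid.FG M := MonoidAlgebra.fg_of_finiteType (R := k)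
  haveI : Module.Finite ℤ (Additive M) :=
    Module.Finite.iff_addGroup_fg.mpr (GroupFG.iff_add_fg.mp (Group.fg_iff_monoid_fg.mpr inferInstance))
  haveI : IsAddTorsionFree (Additive M) := isAddTorsionFree_groupLike
  let r := Module.finrank ℤ (Additive M)
  let b := Module.finBasis ℤ (Additive M)
  let p := ringChar k
  let Q' : Type := Multiplicative (Fin r → ZMod p)
  let q : M →* Q' :=
    { toFun := fun g => Multiplicative.ofAdd fun i => ((b.repr (Additive.ofMul g) i : ℤ) : ZMod p)
      map_one' := Multiplicative.toAdd.injective (funext fun i => by simp)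
      map_mul' := fun g g' => Multiplicative.toAdd.injective (funext fun i => by simp only [ofMul_mul, map_add, Finsupp.add_apply, Int.cast_add, toAdd_ofAdd]; rfl) }
  have hcent := fun a => central π q (fun w hw => by
    obtain ⟨i, hi⟩ : ∃ i, ((b.repr (Additive.ofMul w) i : ℤ) : ZMod p) ≠ 0 := by
      by_contra hcon
      push Not at hcon
      exact hw (Multiplicative.toAdd.injective (funext hcon))
    let δ : M → k := fun g => ((b.repr (Additive.ofMul g) i : ℤ) : k)
    refine ⟨δ, fun g g' => by simp [δ, ofMul_mul], fun h0 => hi ?_, fun φ hφ =>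
      adD_nilpotent m' hL (isDer_dd π δ fun g g' => by simp [δ, ofMul_mul]) hφ⟩
    rwa [ZMod.intCast_zmod_eq_zero_iff_dvd, ← CharP.intCast_eq_zero_iff k p]) a
  let ω : A →ₐc[k] MonoidAlgebra k Q' := (MonoidAlgebra.mapDomainBialgHom k q).comp π
  have hqs : Function.Surjective q := fun c => by
    choose n hn using fun i => ZMod.intCast_surjective (c.toAdd i)
    refine ⟨(∑ i, n i • b i).toMul, Multiplicative.toAdd.injective (funext fun i => ?_)⟩
    show (((b.repr (Additive.ofMul (Additive.toMul (∑ i, n i • b i)))) i : ℤ) : ZMod p) = _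
    rw [ofMul_toMul, b.repr_sum_self]
    exact hn i
  have hωs : Function.Surjective ω := by
    show Function.Surjective ((MonoidAlgebra.mapDomainBialgHom k q) ∘ (Φ ∘ π₀))
    refine Function.Surjective.comp ?_ (Function.Surjective.comp Φ.surjective hπs)
    intro z
    induction z using MonoidAlgebra.induction_linear with
    | zero => exact ⟨0, map_zero _⟩
    | add x y hx hy =>
      obtain ⟨x', rfl⟩ := hx
      obtain ⟨y', rfl⟩ := hy
      exact ⟨x' + y', map_add _ _ _⟩
    | single c r =>
      obtain ⟨g, rfl⟩ := hqs c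
      exact ⟨MonoidAlgebra.single g r, MonoidAlgebra.mapDomainBialgHom_single _ _ _⟩
  haveI := isClosedImmersion_specHom ω hωs
  haveI : Mono (Scheme'.specHom ω) := Over.mono_of_mono_left _
  haveI : AddGroup.FG (Fin r → ZMod p) := AddGroup.fg_of_surjective
    (f := (Int.castAddHom (ZMod p)).compLeft (Fin r)) (fun x => ⟨fun i => (ZMod.intCast_surjective (x i)).choose,
      funext fun i => (ZMod.intCast_surjective (x i)).choose_spec⟩)
  have hmt : SGA3x.IsMultTypeFT (GA k (MonoidAlgebra k Q')) := isMultTypeFT_GA (Fin r → ZMod p)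
  have htriv := hZ (GA k (MonoidAlgebra k Q')) (Scheme'.specHom ω ≫ e.inv) hmt fun X x g => by
    rw [← cancel_mono e.hom, MonObj.mul_comp, MonObj.mul_comp]
    simp only [Category.assoc, e.inv_hom_id, Category.comp_id]
    have h := commute_of_central π q hcent (algHomOf (g ≫ e.hom)) (algHomOf x)
    have hx : pointOf ((algHomOf x).comp (ω : A →ₐ[k] MonoidAlgebra k Q')) = x ≫ Scheme'.specHom ω :=
      algHomOf_injective (AlgHom.ext fun a => by rw [algHomOf_pointOf, algHomOf_specHom]; rfl)
    have h' := congrArg (fun F : WithConv (A →ₐ[k] Γ(X.left, ⊤)) => pointOf F.ofConv) h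
    rw [← pointOf_mul, ← pointOf_mul] at h'
    rw [pointOf_algHomOf, hx] at h'
    exact h'.symm
  have hr : IsEmpty (Fin r) := by
    refine ⟨fun i => ?_⟩
    haveI : IsIso (Spec.map (CommRingCat.ofHom (algebraMap k (MonoidAlgebra k Q')))) := htriv
    haveI : IsIso (CommRingCat.ofHom (algebraMap k (MonoidAlgebra k Q'))) :=
      by
      haveI : IsIso (Scheme.Spec.map (CommRingCat.ofHom (algebraMap k (MonoidAlgebra k Q'))).op) := htriv
      haveI : IsIso (CommRingCat.ofHom (algebraMap k (MonoidAlgebra k Q'))).op := isIso_of_reflects_iso _ Scheme.Spec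
      exact isIso_of_op _
    have hb : Function.Bijective (algebraMap k (MonoidAlgebra k Q')) :=
      ConcreteCategory.bijective_of_isIso (CommRingCat.ofHom (algebraMap k (MonoidAlgebra k Q')))
    haveI : Fact (p ≠ 1) := ⟨CharP.ringChar_ne_one⟩
    let c : Q' := Multiplicative.ofAdd (Pi.single i 1)
    obtain ⟨t, ht⟩ := hb.2 (MonoidAlgebra.single c 1)
    have h1 := congrArg (fun z => z.coeff c) ht
    have hc1 : c ≠ 1 := fun hc => by
      have h2 := congrArg (fun z : Q' => z.toAdd i) hc
      simp [c] at h2
      have h3 : ((1 : ℤ) : ZMod p) = 0 := by rw [Int.cast_one]; exact h2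
      rw [ZMod.intCast_zmod_eq_zero_iff_dvd, Int.natCast_dvd] at h3
      exact CharP.ringChar_ne_one (Nat.eq_one_of_dvd_one h3)
    simp [MonoidAlgebra.algebraMap_def, Finsupp.single_apply, hc1.symm] at h1
  haveI : Subsingleton (Additive M) := b.repr.toEquiv.subsingleton
  have hbij : Function.Bijective (algebraMap k A') := by
    refine ⟨(algebraMap k A').injective, fun a => ?_⟩
    refine ⟨counit (R := k) a, ?_⟩
    apply Φ.injective
    have key : ∀ z : MonoidAlgebra k M, algebraMap k (MonoidAlgebra k M) (counit (R := k) z) = z := by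
      intro z
      induction z using MonoidAlgebra.induction_linear with
      | zero => simp
      | add x y hx hy => simp only [map_add, hx, hy]
      | single g r =>
        rw [show g = 1 from Additive.ofMul.injective (Subsingleton.elim _ _)]
        simp [MonoidAlgebra.algebraMap_def]
    have h1 := key (Φ a)
    rw [CoalgHomClass.counit_comp_apply Φ a] at h1
    show Φ _ = Φ _
    rw [← h1]
    exact AlgHomClass.commutes Φ _
  haveI : IsIso (CommRingCat.ofHom (algebraMap k A')) := (ConcreteCategory.isIso_iff_bijective _).2 hbij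
  haveI : IsIso (GA k A').hom := inferInstanceAs (IsIso (Spec.map (CommRingCat.ofHom (algebraMap k A'))))
  show IsIso T.hom
  rw [← Over.w e'.hom]
  haveI : IsIso e'.hom.left := ((Over.forget _).mapIso e').isIso_hom
  infer_instance

end

end Groth.Agent.H66.LieWt
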