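import Groth.Agent.H66.LieWt.RootExists
import Groth.Agent.H66.Weyl.Roots
import Groth.Agent.H1.Classical.Semidirect
import Groth.Agent.H1.Classical.RedFibre
import Groth.Agent.H82.Reduced.Factors
import Groth.Agent.H87.TorusIn

/-!
Reductivity from the centralisers of the kernels of the roots.
-/

set_option autoImplicit false

universe u

open CategoryTheory Limits MonoidalCategory CartesianMonoidalCategory MonObj GrpObj AlgebraicGeometry TensorProduct WithConv
  Coalgebra Groth.Agent.H1.Classical Groth.Agent.H1.Classical.Scheme' Groth.Agent.Lib.RedPts Groth.Agent.Lib.RedPts.Points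
  Groth.Agent.Lib.GrpSch Groth.Agent.H66.Weyl Groth.Agent.H1.Classical.Words

attribute [local instance] Groth.Agent.Lib.RedPts.Points.baseAlgebra

namespace Groth.Agent.H66.LieWt

set_option linter.style.haveILetI false
set_option linter.unusedSectionVars false

noncomputable section

variable {k : Type u} [Field k]

/-- The tautological algebra map of an affine scheme over the base. -/
def tautPt (R : Type u) [CommRing R] [Algebra k R] :
    R →ₐ[k] Γ((Over.mk (Spec.map (CommRingCat.ofHom (algebraMap k R))) : Over (Spec (CommRingCat.of k))).left, ⊤) :=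
  { ringHomOf (𝟙 (Over.mk (Spec.map (CommRingCat.ofHom (algebraMap k R))) : Over (Spec (CommRingCat.of k))).left) with
    commutes' := fun z => ringHomOf_algebraMap' (Over.mk (Spec.map (CommRingCat.ofHom (algebraMap k R))))
      (𝟙 _) (Category.id_comp _) z }

theorem tautPt_injective (R : Type u) [CommRing R] [Algebra k R] : Function.Injective (tautPt (k := k) R) := by
  intro x y hxy
  let W : Over (Spec (CommRingCat.of k)) := Over.mk (Spec.map (CommRingCat.ofHom (algebraMap k R)))
  have h : (Scheme.ΓSpecIso (CommRingCat.of R)).inv ≫ (𝟙 W.left : _ ⟶ Spec (CommRingCat.of R)).appTop =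
      (Scheme.ΓSpecIso (CommRingCat.of R)).inv := by
    simp [W]
  refine (ConcreteCategory.bijective_of_isIso (Scheme.ΓSpecIso (CommRingCat.of R)).inv).1 ?_
  exact ((congrArg (fun f => (f : CommRingCat.of R ⟶ _).hom x) h).symm.trans hxy).trans
    (congrArg (fun f => (f : CommRingCat.of R ⟶ _).hom y) h)

variable {A : Type u} [CommRing A] [HopfAlgebra k A] {r : ℕ} (π : A →ₐc[k] MonoidAlgebra k (Lat r))

/-- The ideal of a subgroup normalised by the torus is stable under the weights. -/
theorem coeff_mem_ker {B : Type u} [CommRing B] [HopfAlgebra k B] (p : A →ₐc[k] B)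
    (hn : ∀ (X : Over (Spec (CommRingCat.of k))) (t : X ⟶ GA k (MonoidAlgebra k (Lat r))) (x : X ⟶ GA k B),
      ∃ x' : X ⟶ GA k B, (t ≫ specHom π) * (x ≫ specHom p) * (t ≫ specHom π)⁻¹ = x' ≫ specHom p)
    {a : A} (ha : p a = 0) (m : Lat r) : p ((cj π a).coeff m) = 0 := by
  classical
  let R := MonoidAlgebra B (Lat r)
  let W : Over (Spec (CommRingCat.of k)) := Over.mk (Spec.map (CommRingCat.ofHom (algebraMap k R)))
  let F : MonoidAlgebra A (Lat r) →ₐ[k] Γ(W.left, ⊤) :=
    (tautPt R).comp (MonoidAlgebra.mapAlgHom (Lat r) (p : A →ₐ[k] B))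
  let t : W ⟶ GA k (MonoidAlgebra k (Lat r)) :=
    pointOf ((tautPt R).comp (MonoidAlgebra.mapAlgHom (Lat r) (Algebra.ofId k B)))
  let x : W ⟶ GA k B := pointOf ((tautPt R).comp (incl (k := k) B (Lat r)))
  have ht : t ≫ specHom π = pointOf (F.comp (tor π)) := algHomOf_injective (AlgHom.ext fun b => by
    rw [algHomOf_specHom, algHomOf_pointOf, algHomOf_pointOf]
    show tautPt R (MonoidAlgebra.mapAlgHom (Lat r) (Algebra.ofId k B) (π b)) =
      tautPt R (MonoidAlgebra.mapAlgHom (Lat r) (p : A →ₐ[k] B) (iota (π b)))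
    congr 1
    generalize (π b : MonoidAlgebra k (Lat r)) = z
    induction z using MonoidAlgebra.induction_linear with
    | zero => simp
    | add x y hx hy => simp only [map_add, hx, hy]
    | single v c =>
      rw [iota_single, MonoidAlgebra.mapAlgHom_single, MonoidAlgebra.mapAlgHom_single, AlgHom.commutes]
      rfl)
  have hx : x ≫ specHom p = pointOf (F.comp (incl A (Lat r))) := algHomOf_injective (AlgHom.ext fun b => by
    rw [algHomOf_specHom, algHomOf_pointOf, algHomOf_pointOf]
    show tautPt R (incl (k := k) B (Lat r) (p b)) =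
      tautPt R (MonoidAlgebra.mapAlgHom (Lat r) (p : A →ₐ[k] B) (MonoidAlgebra.single 1 b))
    rw [MonoidAlgebra.mapAlgHom_single]
    rfl)
  obtain ⟨x', hx'⟩ := hn W t x
  have h1 : pointOf (F.comp (cj π)) * (t ≫ specHom π) = (t ≫ specHom π) * (x ≫ specHom p) := by
    rw [ht, hx, pointOf_mul, pointOf_mul]
    have h := congrArg (push F) (cj_mul π)
    rw [map_mul, map_mul] at h
    exact congrArg (fun G : WithConv (A →ₐ[k] Γ(W.left, ⊤)) => pointOf G.ofConv) h
  rw [← eq_mul_inv_iff_mul_eq, hx'] at h1
  have h2 := congrArg (fun f => algHomOf f a) h1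
  rw [algHomOf_pointOf, algHomOf_specHom, ha, map_zero] at h2
  have h3 : MonoidAlgebra.mapAlgHom (Lat r) (p : A →ₐ[k] B) (cj π a) = 0 :=
    tautPt_injective (k := k) R (h2.trans (map_zero _).symm)
  have key : ∀ y : MonoidAlgebra A (Lat r), (MonoidAlgebra.mapAlgHom (Lat r) (p : A →ₐ[k] B) y).coeff m = p (y.coeff m) := by
    intro y
    induction y using MonoidAlgebra.induction_linear with
    | zero => simp
    | add u v hu hv => simp only [map_add, MonoidAlgebra.coeff_add, Finsupp.add_apply, hu, hv]
    | single v c =>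
      rw [MonoidAlgebra.mapAlgHom_single, MonoidAlgebra.coeff_single, MonoidAlgebra.coeff_single, Finsupp.single_apply,
        Finsupp.single_apply]
      split_ifs <;> simp
  rw [← key, h3, MonoidAlgebra.coeff_zero, Finsupp.zero_apply]

/-- The dual-number point of a derivation. -/
def derPt (φ : A →ₗ[k] k) (hφ : IsDer φ) :
    (Over.mk (Spec.map (CommRingCat.ofHom (algebraMap k (DualNumber k)))) : Over (Spec (CommRingCat.of k))) ⟶ GA k A :=
  pointOf ((tautPt (DualNumber k)).comp (derAlg φ hφ))

theorem eq_zero_of_derPt_eq_one {φ : A →ₗ[k] k} {hφ : IsDer φ} (h : derPt φ hφ = 1) : φ = 0 := by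
  refine LinearMap.ext fun a => ?_
  have h1 := congrArg (fun f => algHomOf f a) h
  simp only [derPt, algHomOf_pointOf, algHomOf_one] at h1
  have h2 := tautPt_injective (k := k) (DualNumber k) (h1.trans ((tautPt (k := k) (DualNumber k)).commutes _).symm)
  have h3 := congrArg TrivSqZeroExt.snd h2
  change ((derAlg φ hφ) a).snd = _ at h3
  rw [(derAlg_apply φ hφ a).2] at h3
  simpa [TrivSqZeroExt.algebraMap_eq_inl'] using h3

/-- A derivation vanishing on a closed subgroup gives a point of it. -/
theorem exists_derPt_lift {B : Type u} [CommRing B] [HopfAlgebra k B] (p : A →ₐc[k] B) (hp : Function.Surjective p)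
    {φ : A →ₗ[k] k} (hφ : IsDer φ) (hker : ∀ a, p a = 0 → φ a = 0) : ∃ y, y ≫ specHom p = derPt φ hφ := by
  haveI := isClosedImmersion_specHom p hp
  refine CentralTorus.exists_lift (specHom p) _ fun a ha => ?_
  obtain ⟨-, hb⟩ := bijective_algHomOf_id' (k := k) B
  have hpa : p a = 0 := (bijective_algHomOf_id' (k := k) B).1 (by
    rw [map_zero, ← algHomOf_specHom, Category.id_comp]
    exact ha)
  rw [RingHom.mem_ker, derPt, algHomOf_pointOf]
  show tautPt (k := k) (DualNumber k) (derAlg φ hφ a) = 0
  obtain ⟨h1, h2⟩ := derAlg_apply φ hφ a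
  rw [show derAlg φ hφ a = 0 from TrivSqZeroExt.ext (by
    rw [h1, TrivSqZeroExt.fst_zero, ← CoalgHomClass.counit_comp_apply p, hpa, map_zero]) (by
    rw [h2, TrivSqZeroExt.snd_zero, hker a hpa]), map_zero]

/-- A point killing the weights outside the kernel commutes with the subtorus. -/
theorem derPt_commute [IsAlgClosed k] [Algebra.FiniteType k A] [IsDomain A] {Q : Type} [CommGroup Q] (q : Lat r →* Q) {φ : A →ₗ[k] k} (hφ : IsDer φ)
    (hw : ∀ v b, q v ≠ 1 → Homog π v b → φ b = 0) {X : Over (Spec (CommRingCat.of k))}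
    (x : X ⟶ Over.mk (Spec.map (CommRingCat.ofHom (algebraMap k (DualNumber k)))))
    (h : X ⟶ GA k (MonoidAlgebra k Q)) :
    (x ≫ derPt φ hφ) * (h ≫ specHom ((MonoidAlgebra.mapDomainBialgHom k q).comp π)) =
      (h ≫ specHom ((MonoidAlgebra.mapDomainBialgHom k q).comp π)) * (x ≫ derPt φ hφ) := by
  let ω := (MonoidAlgebra.mapDomainBialgHom k q).comp π
  let gm : A →ₐ[k] Γ(X.left, ⊤) := algHomOf (x ≫ derPt φ hφ)
  have hgm : ∀ v b, q v ≠ 1 → Homog π v b → gm b = 0 := by
    intro v b hv hb
    have hv1 : v ≠ 1 := fun h1 => hv (by rw [h1, map_one])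
    obtain ⟨h1, h2⟩ := derAlg_apply φ hφ b
    have h0 : derAlg φ hφ b = 0 := TrivSqZeroExt.ext
      (by rw [h1, TrivSqZeroExt.fst_zero]; exact homog_mem_aug0 π hv1 hb)
      (by rw [h2, TrivSqZeroExt.snd_zero, hw v b hv hb])
    show algHomOf (x ≫ derPt φ hφ) b = 0
    rw [algHomOf_comp, derPt, algHomOf_pointOf]
    show x.left.appTop (tautPt (k := k) (DualNumber k) (derAlg φ hφ b)) = 0
    rw [h0, map_zero, map_zero]
  have hc := commute_of_ker π q gm hgm (algHomOf h)
  have hh : h ≫ specHom ω = pointOf ((algHomOf h).comp ω.toAlgHom) :=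
    algHomOf_injective (AlgHom.ext fun a => by rw [algHomOf_pointOf, algHomOf_specHom]; rfl)
  rw [← pointOf_algHomOf (x ≫ derPt φ hφ), hh, pointOf_mul, pointOf_mul]
  exact congrArg (fun F : WithConv (A →ₐ[k] Γ(X.left, ⊤)) => pointOf F.ofConv) hc.eq

/-- A non-trivial connected group has a derivation. -/
theorem exists_der {B : Type u} [CommRing B] [HopfAlgebra k B] [IsDomain B] [Algebra.FiniteType k B]
    (h : ¬ IsIso (GA k B).hom) : ∃ ψ : B →ₗ[k] k, IsDer ψ ∧ ψ ≠ 0 := by
  haveI : IsNoetherianRing B := Algebra.FiniteType.isNoetherianRing k B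
  by_contra hcon
  push Not at hcon
  refine h ?_
  have hsq : aug0 (k := k) (A := B) ≤ aug0 (k := k) ^ 2 := fun b hb => by
    by_contra h2
    obtain ⟨ψ, hψ, hψb⟩ := exists_isDer hb h2
    exact hψb (by rw [hcon ψ hψ]; rfl)
  have hpow : ∀ n, aug0 (k := k) (A := B) ≤ aug0 (k := k) ^ n := by
    intro n
    induction n with
    | zero => simp
    | succ n ih =>
      refine hsq.trans ?_
      rw [pow_two, pow_succ]
      exact Ideal.mul_mono_left ih
  have hzero : ∀ b ∈ aug0 (k := k) (A := B), b = 0 := fun b hb => by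
    rw [← Submodule.mem_bot B, ← Ideal.iInf_pow_eq_bot_of_isDomain (aug0 (k := k) (A := B)) (RingHom.ker_ne_top _),
      Submodule.mem_iInf]
    exact fun n => hpow n hb
  haveI : IsIso (CommRingCat.ofHom (algebraMap k B)) :=
    (ConcreteCategory.isIso_iff_bijective _).2 ⟨(algebraMap k B).injective, fun b => ⟨counit (R := k) b, by
      refine (sub_eq_zero.1 (hzero _ ?_)).symm
      show counit (R := k) (b - algebraMap k B (counit (R := k) b)) = 0
      simp⟩⟩
  show IsIso (Spec.map (CommRingCat.ofHom (algebraMap k B)))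
  infer_instance

variable [IsAlgClosed k]

/-- A closed subgroup of a torus which is connected and smooth is a torus. -/
theorem isTorus_of_closed {B : Type u} [CommRing B] [HopfAlgebra k B] [IsDomain B] [Algebra.FiniteType k B]
    (g : MonoidAlgebra k (Lat r) →ₐc[k] B) (hg : Function.Surjective g) : Red.IsTorus (GA k B) := by
  have hdiag : HopfRep.IsDiagonalizable k B := by
    refine eq_top_iff.2 ?_
    rintro z -
    obtain ⟨w, rfl⟩ := hg z
    induction w using MonoidAlgebra.induction_linear with
    | zero => rw [map_zero]; exact zero_mem _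
    | add x y hx hy => rw [map_add]; exact add_mem hx hy
    | single v c =>
      rw [← _root_.mul_one c, ← smul_eq_mul, ← MonoidAlgebra.smul_single, map_smul]
      exact Submodule.smul_mem _ _ (Submodule.subset_span
        ((show IsGroupLikeElem k (MonoidAlgebra.single v (1 : k)) from
          ⟨by simp [MonoidAlgebra.counit_single], by simp [MonoidAlgebra.comul_single]⟩).map g))
  obtain ⟨s', hs'⟩ := TorusSplit.isSplit_of_span hdiag
  exact Groth.Agent.Lib.Tori.Basic.isTorus_of_isSplit hs'

/-- The hyperplane map of a vector. -/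
def perp (m : Lat r) (i : Fin r) : Lat r →* Lat r where
  toFun x := Multiplicative.ofAdd (m.toAdd i • x.toAdd - x.toAdd i • m.toAdd)
  map_one' := by simp
  map_mul' x y := by
    rw [← ofAdd_add]
    congr 1
    simp only [toAdd_mul, smul_add, Pi.add_apply, add_smul]
    abel

theorem perp_self (m : Lat r) (i : Fin r) : perp m i m = 1 := by
  show Multiplicative.ofAdd _ = _
  rw [sub_self, ofAdd_zero]

theorem eq_one_of_perp {m : Lat r} {i : Fin r} (hi : m.toAdd i ≠ 0) {s : ℕ} (f : Lat r →* Lat s) (hfm : f m = 1)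
    {x : Lat r} (hx : perp m i x = 1) : f x = 1 := by
  have h1 : m.toAdd i • x.toAdd = x.toAdd i • m.toAdd := sub_eq_zero.1 (Multiplicative.ofAdd.injective hx)
  have h2 : x ^ (m.toAdd i) = m ^ (x.toAdd i) := Multiplicative.toAdd.injective (by rw [toAdd_zpow, toAdd_zpow, h1])
  have h3 : f x ^ (m.toAdd i) = 1 := by rw [← map_zpow, h2, map_zpow, hfm, one_zpow]
  refine Multiplicative.toAdd.injective (funext fun j => ?_)
  have h4 := congrFun (congrArg Multiplicative.toAdd h3) j
  rw [toAdd_zpow, toAdd_one, Pi.smul_apply, Pi.zero_apply, smul_eq_mul] at h4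
  exact (mul_eq_zero.1 h4).resolve_left hi

end

end Groth.Agent.H66.LieWt
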