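import Groth.Agent.H66.LieWt.Criterion

/-!
A group whose root centralisers are reductive is reductive.
-/

set_option autoImplicit false

universe u

open CategoryTheory Limits MonoidalCategory CartesianMonoidalCategory MonObj GrpObj AlgebraicGeometry TensorProduct WithConv
  Coalgebra Groth.Agent.H1.Classical Groth.Agent.H1.Classical.Scheme' Groth.Agent.Lib.RedPts Groth.Agent.Lib.RedPts.Points
  Groth.Agent.Lib.GrpSch Groth.Agent.H66.Weyl Groth.Agent.H1.Classical.Words

attribute [local instance] Groth.Agent.Lib.RedPts.Points.baseAlgebra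

namespace Groth.Agent.H66.LieWt

set_option linter.style.haveILetI false
set_option linter.unusedSectionVars false

noncomputable section

variable {k : Type u} [Field k] [IsAlgClosed k]

/-- A common point of a connected normal subgroup and a centraliser whose trace on it is trivial is trivial. -/
theorem eq_one_of_inter {G U S C : Over (Spec (CommRingCat.of k))} [GrpObj G] [GrpObj U] [GrpObj S] [GrpObj C]
    [IsAffine G.left] [Smooth G.hom] [ConnectedSpace G.left] (iU : U ⟶ G) [IsMonHom iU] [IsClosedImmersion iU.left]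
    [Smooth U.hom] [ConnectedSpace U.left] (hn : AlgGrp.IsNormalHom iU) (iS : S ⟶ G) [IsMonHom iS] [Mono iS]
    (hS : Red.IsTorus S) (c : C ⟶ G) (hc : Red.IsCentralizerOf iS c)
    (htriv : ∀ (I : Over (Spec (CommRingCat.of k))) [GrpObj I] (p : I ⟶ C) (q : I ⟶ U) [IsMonHom p] [IsMonHom q],
      IsClosedImmersion p.left → Mono q → Smooth I.hom → ConnectedSpace I.left → AlgGrp.IsNormalHom p →
      Red.IsTrivialGrp I)
    {X : Over (Spec (CommRingCat.of k))} (g : X ⟶ G) (hgU : ∃ y, y ≫ iU = g)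
    (hg : ∀ (X' : Over (Spec (CommRingCat.of k))) (x : X' ⟶ X) (s : X' ⟶ S), (x ≫ g) * (s ≫ iS) = (s ≫ iS) * (x ≫ g)) :
    g = 1 := by
  haveI := hc.1
  haveI := hc.2.1
  haveI : Mono iU := Over.mono_of_mono_left iU
  obtain ⟨I, p, q, hI⟩ : ∃ (I : Over (Spec (CommRingCat.of k))) (p : I ⟶ C) (q : I ⟶ U), IsPullback p q c iU :=
    ⟨_, _, _, IsPullback.of_hasPullback c iU⟩
  haveI : Mono p := ⟨fun a b h => hI.hom_ext h ((cancel_mono iU).1 (by
    rw [Category.assoc, Category.assoc, ← hI.w, ← Category.assoc, h, Category.assoc]))⟩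
  haveI : Mono q := ⟨fun a b h => hI.hom_ext ((cancel_mono c).1 (by
    rw [Category.assoc, Category.assoc, hI.w, ← Category.assoc, h, Category.assoc])) h⟩
  obtain ⟨hs, hconn⟩ := Semidirect.smooth_connected_centralizer iS hS iU
    (fun Y s u => by
      obtain ⟨n, hn'⟩ := hn Y (s ≫ iS) u
      exact ⟨n, hn'⟩) hc hI
  have hmem : ∀ {Y : Over (Spec (CommRingCat.of k))} (a : Y ⟶ C) (b : Y ⟶ U), a ≫ c = b ≫ iU →
      ∃ z : Y ⟶ I, z ≫ p = a := fun a b h => ⟨hI.lift a b h, hI.lift_fst a b h⟩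
  obtain ⟨inst, hp⟩ := Groth.Agent.Lib.FreeRes.exists_grpObj_of_mono p
    (fun Y => hmem 1 1 (by rw [MonObj.one_comp, MonObj.one_comp]))
    (fun {Y} a b => hmem _ ((a ≫ q) * (b ≫ q)) (by simp only [MonObj.mul_comp, Category.assoc, hI.w]))
    (fun {Y} a => hmem _ (a ≫ q)⁻¹ (by simp only [GrpObj.inv_comp, Category.assoc, hI.w]))
  letI := inst
  haveI := hp
  haveI : IsMonHom (q ≫ iU) := by rw [← hI.w]; infer_instance
  haveI : IsMonHom q := CentralizerBorel.isMonHom_of_mono_comp q iU
  have hpc : IsClosedImmersion p.left :=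
    MorphismProperty.of_isPullback (P := @IsClosedImmersion) (hI.map (Over.forget _)).flip ‹IsClosedImmersion iU.left›
  have hnp : AlgGrp.IsNormalHom p := fun Y z a => by
    obtain ⟨n, hn'⟩ := hn Y (z ≫ c) (a ≫ q)
    obtain ⟨w, hw⟩ := hmem (z * (a ≫ p) * z⁻¹) n (by
      simp only [MonObj.mul_comp, GrpObj.inv_comp, Category.assoc, hI.w]
      rw [← hn']
      simp only [Category.assoc])
    exact ⟨w, hw.symm⟩
  have hI1 : Red.IsTrivialGrp I := htriv I p q hpc inferInstance hs hconn hnp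
  obtain ⟨y, hy⟩ := hgU
  obtain ⟨z, hz⟩ := (hc.2.2 X g).2 hg
  let v : X ⟶ I := hI.lift z y (hz.trans hy.symm)
  haveI : IsIso I.hom := hI1
  have hv : v = 1 := Over.OverMorphism.ext ((cancel_mono I.hom).1 ((Over.w v).trans (Over.w (1 : X ⟶ I)).symm))
  rw [← hy, show y = v ≫ q from (hI.lift_snd _ _ _).symm, hv, MonObj.one_comp, MonObj.one_comp]

/-- Reductivity from the centralisers of the kernels of the roots. -/
theorem isReductiveOver_of_roots {G T : Over (Spec (CommRingCat.of k))} [GrpObj G] [GrpObj T] [IsAffine G.left]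
    [Smooth G.hom] [ConnectedSpace G.left] (i : T ⟶ G) (hT : AGF.IsMaxTorus i) (hZT : Red.IsCentralizerOf i i)
    (h : ∀ (α : T ⟶ Red.Gm (Spec (CommRingCat.of k))), _root_.LieWt.IsRoot i α →
      ∀ (Ta : Over (Spec (CommRingCat.of k))) [GrpObj Ta] (j : Ta ⟶ T) [IsMonHom j] [Mono j],
      Red.IsTorus Ta → j ≫ α = 1 →
      (∀ (T' : Over (Spec (CommRingCat.of k))) [GrpObj T'] (j' : T' ⟶ T) [IsMonHom j'] [Mono j'],
        Red.IsTorus T' → j' ≫ α = 1 → ∃ f : T' ⟶ Ta, f ≫ j = j') →
        ∀ (Z : Over (Spec (CommRingCat.of k))) [GrpObj Z] (z : Z ⟶ G), Red.IsCentralizerOf (j ≫ i) z → Red.IsReductive Z) :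
    Red.IsReductiveOver k G := by
  classical
  refine ⟨inferInstance, inferInstance, inferInstance, fun U _ iU _ hUc hUs hUconn hn hno => ?_⟩
  haveI := hUc
  haveI := hUs
  haveI := hUconn
  haveI : IsAffine U.left := isAffine_of_isAffineHom iU.left
  haveI := hT.1
  haveI := hT.2.1
  -- coordinates
  obtain ⟨A, _, _, _, _, e, he⟩ := MaxTorusApply.exists_GA G
  haveI := he
  obtain ⟨B, _, _, _, _, eU, heU⟩ := MaxTorusApply.exists_GA U
  haveI := heU
  haveI : IsMonHom e.inv := inferInstance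
  haveI : IsMonHom eU.inv := inferInstance
  obtain ⟨hTc, -, -, -⟩ := TorusPts.torus_props i hT.2.2.1
  haveI := hTc
  obtain ⟨r, ⟨ψT⟩⟩ := H87.TorusIn.exists_split T hT.2.2.1
  let d₀ : T ≅ GA k (MonoidAlgebra k (Lat r)) :=
    (Grp.forget _).mapIso ψT ≪≫ Groth.Agent.Lib.DiagGL.dsDiag k (Fin r → ℤ)
  haveI : IsMonHom d₀.hom := by
    haveI : IsMonHom ψT.hom.hom.hom := ψT.hom.hom.isMonHom_hom
    show IsMonHom (ψT.hom.hom.hom ≫ (Groth.Agent.Lib.DiagGL.dsDiag k (Fin r → ℤ)).hom)
    infer_instance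
  haveI : IsMonHom d₀.inv := inferInstance
  obtain ⟨π, hπ'⟩ := H66.Vec.exists_bialgHom (d₀.inv ≫ i ≫ e.hom)
  have hπ : specHom π = d₀.inv ≫ i ≫ e.hom := hπ'
  obtain ⟨p, hp'⟩ := H66.Vec.exists_bialgHom (eU.inv ≫ iU ≫ e.hom)
  have hp : specHom p = eU.inv ≫ iU ≫ e.hom := hp'
  haveI : IsIso d₀.inv.left := ((Over.forget _).mapIso d₀).isIso_inv
  haveI : IsIso e.hom.left := ((Over.forget _).mapIso e).isIso_hom
  haveI : IsIso eU.inv.left := ((Over.forget _).mapIso eU).isIso_inv
  have hπc : IsClosedImmersion (specHom π).left := by rw [hπ, Over.comp_left, Over.comp_left]; infer_instance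
  have hpc : IsClosedImmersion (specHom p).left := by rw [hp, Over.comp_left, Over.comp_left]; infer_instance
  have hπs : Function.Surjective π := H66.Vec.surjective_of_isClosedImmersion hπc
  have hps : Function.Surjective p := H66.Vec.surjective_of_isClosedImmersion hpc
  have hnorm : ∀ (X : Over (Spec (CommRingCat.of k))) (t : X ⟶ GA k (MonoidAlgebra k (Lat r))) (x : X ⟶ GA k B),
      ∃ x' : X ⟶ GA k B, (t ≫ specHom π) * (x ≫ specHom p) * (t ≫ specHom π)⁻¹ = x' ≫ specHom p := fun X t x => by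
    obtain ⟨n, hn'⟩ := hn X (t ≫ d₀.inv ≫ i) (x ≫ eU.inv)
    refine ⟨n ≫ eU.hom, ?_⟩
    have := congrArg (· ≫ e.hom) hn'
    simp only [MonObj.mul_comp, GrpObj.inv_comp, Category.assoc] at this
    simp only [hπ, hp, Category.assoc, Iso.hom_inv_id_assoc]
    exact this
  by_contra hne
  have hneB : ¬ IsIso (GA k B).hom := fun hiso => hne (by
    haveI := hiso
    haveI : IsIso eU.hom.left := ((Over.forget _).mapIso eU).isIso_hom
    show IsIso U.hom
    rw [← Over.w eU.hom]
    infer_instance)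
  obtain ⟨ψ, hψ, hψ0⟩ := exists_der (k := k) (B := B) hneB
  let φ : A →ₗ[k] k := ψ ∘ₗ (p : A →ₐ[k] B).toLinearMap
  have hφ : IsDer φ := fun a b => by
    show ψ (p (a * b)) = _
    rw [map_mul, hψ, CoalgHomClass.counit_comp_apply p, CoalgHomClass.counit_comp_apply p]
    rfl
  have hφk : ∀ a, p a = 0 → φ a = 0 := fun a ha => by show ψ (p a) = 0; rw [ha, map_zero]
  have hφ0 : φ ≠ 0 := fun h0 => hψ0 (LinearMap.ext fun b => by
    obtain ⟨a, rfl⟩ := hps b
    exact LinearMap.congr_fun h0 a)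
  -- a derivation of the subgroup commuting with a subtorus with small centraliser vanishes
  have kill : ∀ {Q : Type} [CommGroup Q] (q : Lat r →* Q) (φ' : A →ₗ[k] k) (hφ' : IsDer φ')
      (_ : ∀ a, p a = 0 → φ' a = 0) (_ : ∀ v b, q v ≠ 1 → Homog π v b → φ' b = 0)
      (S : Over (Spec (CommRingCat.of k))) [GrpObj S] (iS : S ⟶ G) [IsMonHom iS] [Mono iS] (_ : Red.IsTorus S)
      (dS : S ≅ GA k (MonoidAlgebra k Q)) (_ : specHom ((MonoidAlgebra.mapDomainBialgHom k q).comp π) = dS.inv ≫ iS ≫ e.hom)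
      (C : Over (Spec (CommRingCat.of k))) [GrpObj C] (c : C ⟶ G) (_ : Red.IsCentralizerOf iS c)
      (_ : ∀ (I : Over (Spec (CommRingCat.of k))) [GrpObj I] (p : I ⟶ C) (q : I ⟶ U) [IsMonHom p] [IsMonHom q],
        IsClosedImmersion p.left → Mono q → Smooth I.hom → ConnectedSpace I.left → AlgGrp.IsNormalHom p →
        Red.IsTrivialGrp I), φ' = 0 := by
    intro Q _ q φ' hφ' hk hw S _ iS _ _ hS dS hdS C _ c hc htriv
    refine eq_zero_of_derPt_eq_one (hφ := hφ') ?_
    obtain ⟨y, hy⟩ := exists_derPt_lift p hps hφ' hk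
    have h1 : derPt φ' hφ' ≫ e.inv = 1 := eq_one_of_inter iU hn iS hS c hc htriv _
      ⟨y ≫ eU.inv, by rw [← hy, hp]; simp⟩ fun X' x s => by
        have := congrArg (· ≫ e.inv) (derPt_commute π q hφ' hw x (s ≫ dS.hom))
        rw [hdS] at this
        simpa [MonObj.mul_comp] using this
    rw [← cancel_mono e.inv, h1, MonObj.one_comp]
  by_cases hcase : ∃ m : Lat r, m ≠ 1 ∧ wtPart π m φ ≠ 0
  · obtain ⟨m, hm, hmφ⟩ := hcase
    let φm := wtPart π m φ
    have hdm : IsDer φm := isDer_wtPart π hm hφ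
    have hkm : ∀ a, p a = 0 → φm a = 0 := fun a ha => hφk _ (coeff_mem_ker π p hnorm ha m)
    have hwm : ∀ a w, w ≠ m → φm ((cj π a).coeff w) = 0 := fun a w hw => by
      show φ ((cj π ((cj π a).coeff w)).coeff m) = 0
      rw [homog_coeff π a w, MonoidAlgebra.coeff_single, Finsupp.single_eq_of_ne' hw, map_zero]
    have hroot0 := isRoot_of_isWtDer π hm (φ := φm) ⟨hdm, hmφ, hwm⟩
    haveI : IsMonHom e.symm.hom := inferInstanceAs (IsMonHom e.inv)
    have hroot := isRoot_congr e.symm d₀ (specHom π) i (by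
      rw [hπ, Iso.symm_hom]; simp) hroot0
    obtain ⟨i₀, hi₀⟩ : ∃ i₀, m.toAdd i₀ ≠ 0 := by
      by_contra hcon
      push Not at hcon
      exact hm (Multiplicative.toAdd.injective (funext hcon))
    let q0 := perp m i₀
    let Q := q0.range
    let q : Lat r →* Q := q0.rangeRestrict
    haveI : IsDomain (MonoidAlgebra k Q) :=
      Function.Injective.isDomain (MonoidAlgebra.mapDomainAlgHom k k Q.subtype).toRingHom
        (MonoidAlgebra.mapDomain_injective Q.subtype_injective)
    let g : MonoidAlgebra k (Lat r) →ₐc[k] MonoidAlgebra k Q := MonoidAlgebra.mapDomainBialgHom k q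
    have hgs : Function.Surjective g := mapDomain_surjective _ q0.rangeRestrict_surjective
    haveI : Algebra.FiniteType k (MonoidAlgebra k Q) := Algebra.FiniteType.of_surjective (g : MonoidAlgebra k (Lat r) →ₐ[k] MonoidAlgebra k Q) hgs
    have hS : Red.IsTorus (GA k (MonoidAlgebra k Q)) := isTorus_of_closed g hgs
    haveI := isClosedImmersion_specHom g hgs
    haveI : Mono (specHom g) := Over.mono_of_mono_left _
    let jT : GA k (MonoidAlgebra k Q) ⟶ T := specHom g ≫ d₀.inv
    haveI : Mono jT := inferInstanceAs (Mono (specHom g ≫ d₀.inv))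
    haveI : IsMonHom jT := inferInstanceAs (IsMonHom (specHom g ≫ d₀.inv))
    have hjα : jT ≫ d₀.hom ≫ chM m = 1 := by
      rw [Category.assoc, Iso.inv_hom_id_assoc]
      refine Gm.gmFn_injective ?_
      rw [gmFn_chM, ← Category.id_comp (specHom g), algHomOf_specHom, Gm.gmFn_one,
        ← map_one (algHomOf (𝟙 (GA k (MonoidAlgebra k Q))))]
      congr 1
      show MonoidAlgebra.mapDomainBialgHom k q (MonoidAlgebra.single m 1) = 1
      rw [MonoidAlgebra.mapDomainBialgHom_single, show q m = 1 from Subtype.ext (perp_self m i₀), MonoidAlgebra.one_def]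
    have hmax : ∀ (T' : Over (Spec (CommRingCat.of k))) [GrpObj T'] (j' : T' ⟶ T) [IsMonHom j'] [Mono j'],
        Red.IsTorus T' → j' ≫ d₀.hom ≫ chM m = 1 → ∃ f : T' ⟶ GA k (MonoidAlgebra k Q), f ≫ jT = j' := by
      intro T' _ j' _ _ hT' hj'
      obtain ⟨s, ⟨ψ'⟩⟩ := H87.TorusIn.exists_split T' hT'
      let d' : T' ≅ GA k (MonoidAlgebra k (Lat s)) :=
        (Grp.forget _).mapIso ψ' ≪≫ Groth.Agent.Lib.DiagGL.dsDiag k (Fin s → ℤ)
      haveI : IsMonHom d'.hom := by
        haveI : IsMonHom ψ'.hom.hom.hom := ψ'.hom.hom.isMonHom_hom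
        show IsMonHom (ψ'.hom.hom.hom ≫ (Groth.Agent.Lib.DiagGL.dsDiag k (Fin s → ℤ)).hom)
        infer_instance
      haveI : IsMonHom d'.inv := inferInstance
      obtain ⟨F, hF'⟩ := H66.Vec.exists_bialgHom (d'.inv ≫ j' ≫ d₀.hom)
      have hF : specHom F = d'.inv ≫ j' ≫ d₀.hom := hF'
      let f := MonoidAlgebra.mapDomainOfBialgHom F
      have hFs : ∀ x, F (MonoidAlgebra.single x 1) = MonoidAlgebra.single (f x) 1 := fun x =>
        (MonoidAlgebra.single_mapDomainOfBialgHom F x 1).symm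
      have hfm : f m = 1 := by
        have h0 : specHom F ≫ chM m = 1 := by
          rw [hF, Category.assoc, Category.assoc, hj', MonObj.comp_one]
        have h1 := congrArg Red.gmFn h0
        rw [gmFn_chM, ← Category.id_comp (specHom F), algHomOf_specHom, Gm.gmFn_one,
          ← map_one (algHomOf (𝟙 (GA k (MonoidAlgebra k (Lat s)))))] at h1
        have h2 := (bijective_algHomOf_id' (k := k) (MonoidAlgebra k (Lat s))).1 h1
        rw [hFs, MonoidAlgebra.one_def] at h2
        by_contra hne1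
        have h3 := congrArg (fun y : MonoidAlgebra k (Lat s) => y.coeff (f m)) h2
        simp [Finsupp.single_apply, Ne.symm hne1] at h3
      have hker : q.ker ≤ f.ker := fun x hx =>
        eq_one_of_perp hi₀ f hfm (congrArg Subtype.val (MonoidHom.mem_ker.1 hx))
      let fQ : Q →* Lat s := q.liftOfSurjective q0.rangeRestrict_surjective ⟨f, hker⟩
      have hfQ : ∀ x, fQ (q x) = f x := fun x => MonoidHom.liftOfRightInverse_comp_apply _ _ _ ⟨f, hker⟩ x
      refine ⟨d'.hom ≫ specHom (MonoidAlgebra.mapDomainBialgHom k fQ), ?_⟩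
      have h4 : specHom (MonoidAlgebra.mapDomainBialgHom k fQ) ≫ specHom g = specHom F := by
        refine algHomOf_injective (MonoidAlgebra.algHom_ext (fun x => ?_) (by ext))
        rw [algHomOf_specHom, ← Category.id_comp (specHom (MonoidAlgebra.mapDomainBialgHom k fQ)), algHomOf_specHom,
          ← Category.id_comp (specHom F), algHomOf_specHom, hFs]
        show algHomOf (𝟙 _) (MonoidAlgebra.mapDomainBialgHom k fQ
          (MonoidAlgebra.mapDomainBialgHom k q (MonoidAlgebra.single x 1))) = _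
        rw [MonoidAlgebra.mapDomainBialgHom_single, MonoidAlgebra.mapDomainBialgHom_single, hfQ]
      show (d'.hom ≫ specHom _) ≫ specHom g ≫ d₀.inv = j'
      rw [Category.assoc, ← Category.assoc (specHom _) (specHom g), h4, hF]
      simp
    haveI : IsMonHom (jT ≫ i) := inferInstance
    haveI : Mono (jT ≫ i) := inferInstance
    obtain ⟨C, _, c, hc, -, -⟩ := Groth.Agent.Lib.MultSmooth.exists_centralizer_smooth
      (CentralizerScheme.isMultTypeFT_of_isTorus hS) (jT ≫ i)
    have hC := H82.Reduced.isReductiveOver_self (h _ hroot _ jT hS hjα hmax C c hc)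
    refine hmφ (kill q φm hdm hkm (fun v b hv hb => ?_) _ (jT ≫ i) hS (Iso.refl _) ?_ C c hc
      fun I _ pI qI _ _ hpc hq hs hconn hnp => ?_)
    · have hvm : v ≠ m := fun he => hv (by rw [he]; exact Subtype.ext (perp_self m i₀))
      show φ ((cj π b).coeff m) = 0
      rw [hb, MonoidAlgebra.coeff_single, Finsupp.single_eq_of_ne' hvm, map_zero]
    · show specHom (g.comp π) = 𝟙 _ ≫ ((specHom g ≫ d₀.inv) ≫ i) ≫ e.hom
      rw [Category.id_comp, Category.assoc, Category.assoc, ← hπ]
      refine algHomOf_injective (AlgHom.ext fun a => ?_)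
      rw [algHomOf_specHom, ← Category.id_comp (specHom (g.comp π)), algHomOf_specHom]
      conv_rhs => rw [← Category.id_comp (specHom g), algHomOf_specHom]
      rfl
    · haveI := hq
      exact hC.2.2.2 I pI hpc hs hconn hnp fun W _ w _ _ hW => hno W (w ≫ qI) hW
  · push Not at hcase
    have hw1 : ∀ v b, v ≠ 1 → Homog π v b → φ b = 0 := fun v b hv hb => by
      have := LinearMap.congr_fun (hcase v hv) b
      change φ ((cj π b).coeff v) = 0 at this
      rwa [hb, MonoidAlgebra.coeff_single, Finsupp.single_eq_same] at this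
    refine hφ0 (kill (MonoidHom.id (Lat r)) φ hφ hφk (fun v b hv => hw1 v b hv) T i hT.2.2.1 d₀ ?_ T i hZT
      fun I _ pI qI _ _ hpc hq hs hconn _ => ?_)
    · rw [MonoidAlgebra.mapDomainBialgHom_id, BialgHom.id_comp, hπ]
    · haveI := hpc
      haveI := hs
      haveI := hconn
      haveI := hq
      haveI : IsAffine T.left := isAffine_of_isAffineHom i.left
      haveI : IsAffine I.left := isAffine_of_isAffineHom pI.left
      obtain ⟨BI, _, _, _, _, eI, heI⟩ := MaxTorusApply.exists_GA I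
      haveI := heI
      haveI : IsMonHom eI.inv := inferInstance
      obtain ⟨gI, hgI'⟩ := H66.Vec.exists_bialgHom (eI.inv ≫ pI ≫ d₀.hom)
      have hgI : specHom gI = eI.inv ≫ pI ≫ d₀.hom := hgI'
      haveI : IsIso eI.inv.left := ((Over.forget _).mapIso eI).isIso_inv
      haveI : IsIso d₀.hom.left := ((Over.forget _).mapIso d₀).isIso_hom
      have hgs := H66.Vec.surjective_of_isClosedImmersion (show IsClosedImmersion (specHom gI).left by
        rw [hgI, Over.comp_left, Over.comp_left]; infer_instance)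
      haveI : IsMonHom eI.symm.hom := inferInstanceAs (IsMonHom eI.inv)
      have hIt : Red.IsTorus I :=
        Groth.Agent.Lib.Tori.Basic.isTorus_congr (Groth.Agent.Lib.Tori.BaseChange.grpIso eI) (isTorus_of_closed gI hgs)
      exact hno I qI hIt

end

end Groth.Agent.H66.LieWt
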