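import Groth.Agent.H66.LieWt.Bracket
import Groth.Agent.H66.Weyl.Chars
import Groth.Agent.Lib.RedPts.Gm
import Groth.Agent.H1.Classical.ConjIso
import Groth.Agent.H1.Classical.TorusPts
import Groth.Prelude.Def_LieWt

/-!
Roots of a split torus as weights of the conjugation on the cotangent space.
-/

set_option autoImplicit false

universe u

open CategoryTheory MonoidalCategory CartesianMonoidalCategory MonObj GrpObj AlgebraicGeometry TensorProduct WithConv
  Coalgebra Groth.Agent.H1.Classical Groth.Agent.H1.Classical.Scheme' Groth.Agent.Lib.RedPts Groth.Agent.Lib.RedPts.Points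
  Groth.Agent.H1.Classical.Words Groth.Agent.H66.Weyl

attribute [local instance] Groth.Agent.Lib.RedPts.Points.baseAlgebra

namespace Groth.Agent.H66.LieWt

set_option linter.style.haveILetI false
set_option linter.unusedSectionVars false

noncomputable section

section Transport

variable {R : Type u} [CommRing R] {G G' T T' : Over (Spec (CommRingCat.of R))} [GrpObj G] [GrpObj G'] [GrpObj T]
  [GrpObj T']

theorem map_mem_weightSpOf (e : G ⟶ G') [IsMonHom e] (d : T' ⟶ T) (i : T ⟶ G) (α : T ⟶ Red.Gm (Spec (CommRingCat.of R)))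
    (i' : T' ⟶ G') (hi : i' = d ≫ i ≫ e) {x : LieS.LieR G R} (hx : x ∈ _root_.LieWt.weightSpOf i α R) :
    LieS.map R _ e x ∈ _root_.LieWt.weightSpOf i' (d ≫ α) R := by
  intro B' _ _ φ t
  subst hi
  have h := congrArg (fun v => v.1 ≫ e) (hx B' φ (t ≫ d))
  simp only [_root_.LieWt.Ad_val, LieS.smul_val, _root_.LieWt.pull_val, MonObj.mul_comp, GrpObj.inv_comp,
    Category.assoc] at h
  refine Subtype.ext ?_
  simp only [_root_.LieWt.Ad_val, LieS.smul_val, _root_.LieWt.pull_val]
  have hc : VecGrp.chiVal (B := B') (d ≫ α) t = VecGrp.chiVal α (t ≫ d) := by simp [VecGrp.chiVal]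
  show _ = LieS.scale B' _ (VecGrp.chiVal (d ≫ α) t) ≫ _
  rw [hc]
  exact h

theorem isRoot_congr (e : G ≅ G') [IsMonHom e.hom] (d : T' ≅ T) [IsMonHom d.hom] (i : T ⟶ G) (i' : T' ⟶ G')
    (hi : i' = d.hom ≫ i ≫ e.hom) {α : T ⟶ Red.Gm (Spec (CommRingCat.of R))} (hα : _root_.LieWt.IsRoot i α) :
    _root_.LieWt.IsRoot i' (d.hom ≫ α) := by
  haveI := hα.1
  refine ⟨inferInstance, fun h => hα.2.1 ?_, fun h => hα.2.2 ?_⟩
  · rw [← cancel_epi d.hom, h, MonObj.comp_one]
  · refine (Subgroup.eq_bot_iff_forall _).2 fun x hx => ?_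
    have h1 := (Subgroup.eq_bot_iff_forall _).1 h _ (map_mem_weightSpOf e.hom d.hom i α i' hi hx)
    refine Subtype.ext ?_
    have h2 : x.1 ≫ e.hom = 1 := congrArg Subtype.val h1
    rw [← cancel_mono e.hom, h2, Subgroup.coe_one, MonObj.one_comp]

end Transport

variable {k : Type u} [Field k] {A : Type u} [CommRing A] [HopfAlgebra k A] {r : ℕ}
  (π : A →ₐc[k] MonoidAlgebra k (Lat r))

/-- A derivation supported on one weight. -/
def IsWtDer (m : Lat r) (φ : A →ₗ[k] k) : Prop :=
  IsDer φ ∧ φ ≠ 0 ∧ ∀ a w, w ≠ m → φ ((cj π a).coeff w) = 0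

/-- The character of a lattice point. -/
def chM (m : Lat r) : GA k (MonoidAlgebra k (Lat r)) ⟶ Red.Gm (Spec (CommRingCat.of k)) :=
  Gm.gmPt (Units.map (algHomOf (𝟙 (GA k (MonoidAlgebra k (Lat r))))).toMonoidHom
    ((MonoidAlgebra.of k (Lat r)).toHomUnits m))

theorem gmFn_chM {X : Over (Spec (CommRingCat.of k))} (x : X ⟶ GA k (MonoidAlgebra k (Lat r))) (m : Lat r) :
    Red.gmFn (x ≫ chM m) = algHomOf x (MonoidAlgebra.single m 1) := by
  rw [Gm.gmFn_comp, chM, Gm.gmFn_gmPt]
  show x.left.appTop (algHomOf (𝟙 _) (MonoidAlgebra.single m 1)) = _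
  conv_rhs => rw [← Category.comp_id x]
  exact (ringHomOf_comp x.left _ _).symm

instance isMonHom_chM (m : Lat r) : IsMonHom (chM (k := k) m) :=
  ConjIso.isMonHom_of_mul _ fun p q => Gm.gmFn_injective (by
    rw [Gm.gmFn_mul, gmFn_chM, gmFn_chM, gmFn_chM, algHomOf_apply, algHomOf_apply, algHomOf_apply]
    exact ringHomOf_mul_of_isGroupLike p q (MonoidAlgebra.comul_single _ _ |>.trans (by simp)))

theorem eq_chM {α : GA k (MonoidAlgebra k (Lat r)) ⟶ Red.Gm (Spec (CommRingCat.of k))} {m : Lat r}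
    (h : Red.gmFn α = algHomOf (𝟙 (GA k (MonoidAlgebra k (Lat r)))) (MonoidAlgebra.single m 1)) : α = chM m :=
  Gm.gmFn_injective (h.trans ((congrArg Red.gmFn (Category.id_comp (chM m))).symm.trans (gmFn_chM _ m)).symm)

theorem chM_one : chM (k := k) (1 : Lat r) = 1 := Gm.gmFn_injective (by
  rw [← Category.id_comp (chM 1), gmFn_chM, ← MonoidAlgebra.one_def, map_one, Gm.gmFn_one])

theorem chM_inv (m : Lat r) : (chM (k := k) m)⁻¹ = chM m⁻¹ := inv_eq_of_mul_eq_one_right (Gm.gmFn_injective (by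
  rw [Gm.gmFn_mul, ← Category.id_comp (chM m), ← Category.id_comp (chM m⁻¹), gmFn_chM, gmFn_chM, ← map_mul,
    MonoidAlgebra.single_mul_single, mul_inv_cancel, _root_.mul_one, ← MonoidAlgebra.one_def, map_one, Gm.gmFn_one]))

theorem bijective_algHomOf_id' (B : Type u) [CommRing B] [HopfAlgebra k B] :
    Function.Bijective (algHomOf (𝟙 (GA k B))) := by
  have h : ∀ z : B, algHomOf (𝟙 (GA k B)) z = (Scheme.ΓSpecIso (CommRingCat.of B)).inv z := fun z => by
    rw [algHomOf_apply, ringHomOf_apply]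
    simp
    rfl
  have hb := ConcreteCategory.bijective_of_isIso (Scheme.ΓSpecIso (CommRingCat.of B)).inv
  exact (funext h : ⇑(algHomOf (𝟙 (GA k B))) = _) ▸ hb

section Eval

variable {B' : Type u} [CommRing B'] [Algebra k B']

/-- The structure map of a test algebra. -/
abbrev gB (B' : Type u) [CommRing B'] [Algebra k B'] : Spec (CommRingCat.of B') ⟶ Spec (CommRingCat.of k) :=
  Spec.map (CommRingCat.ofHom (algebraMap k B'))

theorem chiVal_toPt (α : GA k (MonoidAlgebra k (Lat r)) ⟶ Red.Gm (Spec (CommRingCat.of k)))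
    (z : MonoidAlgebra k (Lat r)) (hz : Red.gmFn α = algHomOf (𝟙 _) z)
    (s : WithConv (MonoidAlgebra k (Lat r) →ₐ[k] B')) :
    VecGrp.chiVal (B := B') α (toPt (gB B') rfl s) = s.ofConv z := by
  rw [VecGrp.chiVal, Gm.gmFn_comp, hz]
  have h1 : (toPt (gB B') rfl s).left.appTop (algHomOf (𝟙 (GA k (MonoidAlgebra k (Lat r)))) z) =
      algHomOf (toPt (gB B') rfl s) z := by
    conv_rhs => rw [← Category.comp_id (toPt (gB B') rfl s)]
    exact (ringHomOf_comp _ _ _).symm
  rw [h1]
  show (Scheme.ΓSpecIso (CommRingCat.of B')).hom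
    ((toPt (gB B') rfl s).left.appTop ((Scheme.ΓSpecIso (CommRingCat.of (MonoidAlgebra k (Lat r)))).inv z)) = _
  rw [toPt_left]
  have h2 := congrArg (fun f => f.hom z) (Scheme.ΓSpecIso_inv_naturality (CommRingCat.ofHom s.ofConv.toRingHom))
  refine (congrArg (Scheme.ΓSpecIso (CommRingCat.of B')).hom h2.symm).trans ?_
  exact congrArg (fun f => f.hom (s.ofConv z)) (Scheme.ΓSpecIso (CommRingCat.of B')).inv_hom_id

/-- The base change of dual numbers as an algebra map. -/
def bcAlg : DualNumber k →ₐ[k] DualNumber B' :=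
  { LieS.bcHom (algebraMap k B') with
    commutes' := fun c => by ext <;> simp [LieS.bcHom, TrivSqZeroExt.algebraMap_eq_inl'] }

/-- Rescaling as an algebra map. -/
def scAlg (c : B') : DualNumber B' →ₐ[k] DualNumber B' :=
  { LieS.scaleHom c with
    commutes' := fun z => by ext <;> simp [LieS.scaleHom, TrivSqZeroExt.algebraMap_eq_inl'] }

/-- The constant dual numbers. -/
def cstAlg : B' →ₐ[k] DualNumber B' := (Algebra.ofId B' (DualNumber B')).restrictScalars k

/-- The composite structure map. -/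
abbrev fB (φ : k →ₐ[k] B') : Spec (CommRingCat.of B') ⟶ Spec (CommRingCat.of k) :=
  Spec.map (CommRingCat.ofHom φ.toRingHom) ≫ bf k

theorem dB_eq (φ : k →ₐ[k] B') : (Spec.map (CommRingCat.ofHom (algebraMap B' (DualNumber B'))) ≫ fB φ) =
    Spec.map (CommRingCat.ofHom (algebraMap k (DualNumber B'))) := by
  have h : φ.toRingHom = algebraMap k B' := RingHom.ext φ.commutes
  rw [fB, bf, LieS.specMap_comp, LieS.specMap_comp]
  congr 2
  rw [h]
  exact RingHom.ext fun c => by simp [TrivSqZeroExt.algebraMap_eq_inl']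

/-- A dual-number point over the test algebra. -/
abbrev bPt (φ : k →ₐ[k] B') : WithConv (A →ₐ[k] DualNumber B') →* (LieS.dpt B' (fB φ) ⟶ GA k A) :=
  toPt (Spec.map (CommRingCat.ofHom (algebraMap B' (DualNumber B'))) ≫ fB φ) (dB_eq φ)

theorem pull_dPt (φ : k →ₐ[k] B') (x : WithConv (A →ₐ[k] DualNumber k)) :
    LieS.dptMap (bf k) φ.toRingHom ≫ dPt x = bPt φ (toConv (bcAlg.comp x.ofConv)) := by
  refine Over.OverMorphism.ext ?_
  show Spec.map _ ≫ (dPt x).left = _
  refine ((congrArg (Spec.map _ ≫ ·) (toPt_left _ dpt_eq x)).trans ?_).trans (toPt_left _ _ _).symm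
  refine (Spec.map_comp _ _).symm.trans (congrArg Spec.map (CommRingCat.hom_ext ?_))
  refine RingHom.ext fun a => ?_
  show LieS.bcHom φ.toRingHom (x.ofConv a) = LieS.bcHom (algebraMap k B') (x.ofConv a)
  rw [show φ.toRingHom = algebraMap k B' from RingHom.ext φ.commutes]

theorem scale_bPt (φ : k →ₐ[k] B') (c : B') (x : WithConv (A →ₐ[k] DualNumber B')) :
    LieS.scale B' (fB φ) c ≫ bPt φ x = bPt φ (toConv ((scAlg c).comp x.ofConv)) := by
  refine Over.OverMorphism.ext ?_
  show Spec.map _ ≫ (bPt φ x).left = _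
  refine ((congrArg (Spec.map _ ≫ ·) (toPt_left _ _ x)).trans ?_).trans (toPt_left _ _ _).symm
  exact (Spec.map_comp _ _).symm

theorem proj_toPt (φ : k →ₐ[k] B') {B : Type u} [CommRing B] [HopfAlgebra k B] (g : A →ₐc[k] B)
    (s : WithConv (B →ₐ[k] B')) :
    LieS.proj B' (fB φ) ≫ (VecGrp.ptIso φ).hom ≫ toPt (gB B') rfl s ≫ specHom g =
      bPt φ (toConv (cstAlg.comp (s.ofConv.comp (g : A →ₐ[k] B)))) := by
  refine Over.OverMorphism.ext ?_
  refine Eq.trans ?_ (toPt_left _ (dB_eq φ) _).symm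
  show Spec.map _ ≫ 𝟙 _ ≫ (toPt (gB B') rfl s).left ≫ Spec.map _ = _
  refine (congrArg (Spec.map _ ≫ ·) (Category.id_comp _)).trans ?_
  refine (congrArg (fun f => Spec.map _ ≫ f ≫ Spec.map _) (toPt_left _ rfl s)).trans ?_
  refine (congrArg (Spec.map _ ≫ ·) (Spec.map_comp _ _).symm).trans ?_
  exact (Spec.map_comp _ _).symm

theorem push_eval (s : MonoidAlgebra k (Lat r) →ₐ[k] B') (φ : A →ₗ[k] k) (hφ : IsDer φ) (a : A) :
    (toConv (cstAlg.comp (s.comp π.toAlgHom)) * toConv ((bcAlg (B' := B')).comp (derAlg φ hφ)) *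
        (toConv (cstAlg.comp (s.comp π.toAlgHom)))⁻¹).ofConv a =
      algebraMap k (DualNumber B') (counit (R := k) a) +
        TrivSqZeroExt.inr (s (MonoidAlgebra.ofCoeff (Finsupp.mapRange φ (map_zero φ) (cj π a).coeff))) := by
  classical
  let gm : A →ₐ[k] DualNumber B' := (bcAlg (B' := B')).comp (derAlg φ hφ)
  let F : MonoidAlgebra A (Lat r) →ₐ[k] DualNumber B' :=
    MonoidAlgebra.liftNCAlgHom gm ((((cstAlg (B' := B')).comp s : _ →ₐ[k] DualNumber B') :
      MonoidAlgebra k (Lat r) →* DualNumber B').comp (MonoidAlgebra.of k (Lat r))) fun _ _ => Commute.all _ _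
  have hF : ∀ (m : Lat r) (b : A), F (MonoidAlgebra.single m b) = gm b * cstAlg (s (MonoidAlgebra.single m 1)) :=
    fun m b => by
      simp [F, MonoidAlgebra.liftNCAlgHom, MonoidAlgebra.liftNCRingHom]
      rfl
  have hg : push F (toConv (incl A (Lat r))) = toConv gm := by
    refine congrArg toConv (AlgHom.ext fun b => ?_)
    show F (MonoidAlgebra.single (1 : Lat r) b) = gm b
    rw [hF, ← MonoidAlgebra.one_def, map_one, map_one, _root_.mul_one]
  have ht : push F (toConv (tor π)) = toConv (cstAlg.comp (s.comp π.toAlgHom)) := by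
    refine congrArg toConv (AlgHom.ext fun b => ?_)
    show F (iota (π b)) = cstAlg (k := k) (s (π b))
    generalize (π b : MonoidAlgebra k (Lat r)) = z
    induction z using MonoidAlgebra.induction_linear with
    | zero => simp
    | add x y hx hy => simp only [map_add, hx, hy]
    | single m c =>
      rw [iota_single, hF, AlgHom.commutes, ← Algebra.smul_def, ← map_smul, ← map_smul, MonoidAlgebra.smul_single,
        smul_eq_mul, _root_.mul_one]
  have h : push F (toConv (cj π)) = toConv (cstAlg.comp (s.comp π.toAlgHom)) * toConv gm *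
      (toConv (cstAlg.comp (s.comp π.toAlgHom)))⁻¹ := by
    rw [show toConv (cj π) = toConv (tor π) * toConv (incl A (Lat r)) * (toConv (tor π))⁻¹ from rfl, map_mul, map_mul,
      map_inv, hg, ht]
  refine (congrArg (fun q : WithConv (A →ₐ[k] DualNumber B') => q.ofConv a) h).symm.trans ?_
  show F (cj π a) = _
  have key : ∀ y : MonoidAlgebra A (Lat r), F y =
      cstAlg (k := k) (s (MonoidAlgebra.ofCoeff (Finsupp.mapRange (counit (R := k)) (map_zero _) y.coeff))) +
        TrivSqZeroExt.inr (s (MonoidAlgebra.ofCoeff (Finsupp.mapRange φ (map_zero φ) y.coeff))) := by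
    intro y
    induction y using MonoidAlgebra.induction_linear with
    | zero => simp
    | add p q hp hq =>
      rw [map_add, hp, hq, MonoidAlgebra.coeff_add, Finsupp.mapRange_add (map_add _), Finsupp.mapRange_add (map_add _),
        MonoidAlgebra.ofCoeff_add, MonoidAlgebra.ofCoeff_add, map_add, map_add, map_add, TrivSqZeroExt.inr_add]
      abel
    | single m b =>
      rw [hF, MonoidAlgebra.coeff_single, Finsupp.mapRange_single, Finsupp.mapRange_single,
        MonoidAlgebra.ofCoeff_single, MonoidAlgebra.ofCoeff_single]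
      have hu : ∀ c : k, s (MonoidAlgebra.single m c) = c • s (MonoidAlgebra.single m 1) := fun c => by
        rw [← map_smul, MonoidAlgebra.smul_single, smul_eq_mul, _root_.mul_one]
      rw [hu (counit (R := k) b), hu (φ b)]
      obtain ⟨h1, h2⟩ := derAlg_apply φ hφ b
      generalize s (MonoidAlgebra.single m 1) = u
      ext <;> simp [gm, bcAlg, cstAlg, LieS.bcHom, TrivSqZeroExt.algebraMap_eq_inl', h1, h2, Algebra.smul_def]
  rw [key]
  congr 1
  have h0 : MonoidAlgebra.ofCoeff (Finsupp.mapRange (counit (R := k)) (map_zero _) (cj π a).coeff) =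
      algebraMap k (MonoidAlgebra k (Lat r)) (counit (R := k) a) := by
    refine MonoidAlgebra.coeff_injective (Finsupp.ext fun w => ?_)
    rw [MonoidAlgebra.coeff_ofCoeff, Finsupp.mapRange_apply, counit_coeff]
    simp [MonoidAlgebra.algebraMap_def]
  rw [h0, AlgHom.commutes, AlgHom.commutes]

end Eval

/-- The weight condition at a point, read on algebra maps. -/
theorem weight_iff (α : GA k (MonoidAlgebra k (Lat r)) ⟶ Red.Gm (Spec (CommRingCat.of k))) (z : MonoidAlgebra k (Lat r))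
    (hz : Red.gmFn α = algHomOf (𝟙 _) z) (φ : A →ₗ[k] k) (hφ : IsDer φ) {B' : Type u} [CommRing B'] [Algebra k B']
    (φ₀ : k →ₐ[k] B') (s : WithConv (MonoidAlgebra k (Lat r) →ₐ[k] B')) :
    LieS.Ad (GA k A) B' _ ((VecGrp.ptIso φ₀).hom ≫ toPt (gB B') rfl s ≫ specHom π)
        (LieS.pull (GA k A) _ φ₀.toRingHom ⟨dPt (toConv (derAlg φ hφ)), mem_of_der φ hφ⟩) =
      VecGrp.chiVal (B := B') α (toPt (gB B') rfl s) •
        LieS.pull (GA k A) _ φ₀.toRingHom ⟨dPt (toConv (derAlg φ hφ)), mem_of_der φ hφ⟩ ↔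
      ∀ a, s.ofConv (MonoidAlgebra.ofCoeff (Finsupp.mapRange φ (map_zero φ) (cj π a).coeff)) = φ a • s.ofConv z := by
  let C : WithConv (A →ₐ[k] DualNumber B') := toConv (cstAlg.comp (s.ofConv.comp π.toAlgHom))
  let Y : WithConv (A →ₐ[k] DualNumber B') := toConv ((bcAlg (B' := B')).comp (derAlg φ hφ))
  have e1 : LieS.dptMap (bf k) φ₀.toRingHom ≫ dPt (toConv (derAlg φ hφ)) = bPt φ₀ Y := pull_dPt φ₀ _
  have e2 : LieS.proj B' (fB φ₀) ≫ (VecGrp.ptIso φ₀).hom ≫ toPt (gB B') rfl s ≫ specHom π = bPt φ₀ C :=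
    proj_toPt φ₀ π s
  have lhs : (LieS.Ad (GA k A) B' _ ((VecGrp.ptIso φ₀).hom ≫ toPt (gB B') rfl s ≫ specHom π)
      (LieS.pull (GA k A) _ φ₀.toRingHom ⟨dPt (toConv (derAlg φ hφ)), mem_of_der φ hφ⟩)).1 = bPt φ₀ (C * Y * C⁻¹) := by
    refine (_root_.LieWt.Ad_val _ _ _ _).trans ?_
    rw [map_mul, map_mul, map_inv, ← e2, ← e1]
    rfl
  have rhs : (VecGrp.chiVal (B := B') α (toPt (gB B') rfl s) •
      LieS.pull (GA k A) _ φ₀.toRingHom ⟨dPt (toConv (derAlg φ hφ)), mem_of_der φ hφ⟩).1 =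
      bPt φ₀ (toConv ((scAlg (s.ofConv z)).comp Y.ofConv)) := by
    rw [chiVal_toPt α z hz]
    refine (LieS.smul_val _ _ _ _ _).trans ?_
    exact (congrArg (LieS.scale B' (fB φ₀) (s.ofConv z) ≫ ·) e1).trans (scale_bPt φ₀ (s.ofConv z) Y)
  have hpush : ∀ a, (C * Y * C⁻¹).ofConv a = algebraMap k (DualNumber B') (counit (R := k) a) +
      TrivSqZeroExt.inr (s.ofConv (MonoidAlgebra.ofCoeff (Finsupp.mapRange φ (map_zero φ) (cj π a).coeff))) :=
    push_eval π s.ofConv φ hφ
  have hsc : ∀ a, (scAlg (s.ofConv z)).comp Y.ofConv a = algebraMap k (DualNumber B') (counit (R := k) a) +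
      TrivSqZeroExt.inr (φ a • s.ofConv z) := fun a => by
    obtain ⟨h1, h2⟩ := derAlg_apply φ hφ a
    ext <;> simp [Y, scAlg, bcAlg, LieS.scaleHom, LieS.bcHom, TrivSqZeroExt.algebraMap_eq_inl', h1, h2,
      Algebra.smul_def]
  constructor
  · intro h a
    have h1 := toPt_injective _ (dB_eq φ₀) ((lhs.symm.trans (congrArg Subtype.val h)).trans rhs)
    have h2 := (hpush a).symm.trans ((congrArg (fun q : WithConv (A →ₐ[k] DualNumber B') => q.ofConv a) h1).trans (hsc a))
    exact TrivSqZeroExt.inr_injective (add_left_cancel h2)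
  · intro h
    refine Subtype.ext (lhs.trans (Eq.trans (congrArg _ (ofConv_injective (AlgHom.ext fun a => ?_))) rhs.symm))
    exact (hpush a).trans (((hsc a).trans (by rw [h a])).symm)

/-- A root gives a derivation supported on one weight. -/
theorem exists_isWtDer_of_isRoot {α : GA k (MonoidAlgebra k (Lat r)) ⟶ Red.Gm (Spec (CommRingCat.of k))}
    (hα : _root_.LieWt.IsRoot (specHom π) α) : ∃ m φ, m ≠ 1 ∧ α = chM m ∧ IsWtDer π m φ := by
  classical
  obtain ⟨hmon, hne, hbot⟩ := hα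
  rw [ne_eq, Subgroup.eq_bot_iff_forall] at hbot
  push Not at hbot
  obtain ⟨x, hx, hx1⟩ := hbot
  obtain ⟨X, hX, rfl⟩ := dPt_surj (A := A) x
  let φ : A →ₗ[k] k := (TrivSqZeroExt.sndHom k k) ∘ₗ X.ofConv.toLinearMap
  have hfst : ∀ a, (X.ofConv a).fst = counit (R := k) a := fst_of_mem X hX
  have hφ : IsDer φ := fun a b => by
    show (X.ofConv (a * b)).snd = _
    rw [map_mul, DualNumber.snd_mul, hfst, hfst]
    show _ = (X.ofConv a).snd * _ + _ * (X.ofConv b).snd
    ring
  have hXd : X = toConv (derAlg φ hφ) := ofConv_injective (AlgHom.ext fun a => by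
    obtain ⟨h1, h2⟩ := derAlg_apply φ hφ a
    exact TrivSqZeroExt.ext ((hfst a).trans h1.symm) h2.symm)
  have hxd : (⟨dPt X, hX⟩ : LieS.Lie (GA k A) k (bf k)) = ⟨dPt (toConv (derAlg φ hφ)), mem_of_der φ hφ⟩ :=
    Subtype.ext (congrArg dPt hXd)
  rw [hxd] at hx hx1
  have hφ0 : φ ≠ 0 := fun h => hx1 (Subtype.ext (by
    show dPt (toConv (derAlg φ hφ)) = 1
    rw [← map_one (dPt (A := A) (k := k))]
    congr 1
    refine ofConv_injective (AlgHom.ext fun a => ?_)
    obtain ⟨h1, h2⟩ := derAlg_apply φ hφ a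
    refine TrivSqZeroExt.ext (h1.trans ?_) (h2.trans ?_)
    · simp [TrivSqZeroExt.algebraMap_eq_inl']
    · rw [h]
      simp [TrivSqZeroExt.algebraMap_eq_inl']))
  let B' := MonoidAlgebra k (Lat r)
  let φ₀ : k →ₐ[k] B' := Algebra.ofId k B'
  obtain ⟨z, hz⟩ := (bijective_algHomOf_id' (k := k) (MonoidAlgebra k (Lat r))).2 (Red.gmFn α)
  have key : ∀ a : A, MonoidAlgebra.ofCoeff (Finsupp.mapRange φ (map_zero φ) (cj π a).coeff) = φ a • z :=
    (weight_iff π α z hz.symm φ hφ φ₀ (toConv (AlgHom.id k B'))).1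
      (hx B' φ₀ (toPt (gB B') rfl (toConv (AlgHom.id k B'))))
  obtain ⟨a, ha⟩ : ∃ a, φ a ≠ 0 := by
    by_contra hcon
    push Not at hcon
    exact hφ0 (LinearMap.ext hcon)
  obtain ⟨m, hm⟩ : ∃ m, φ ((cj π a).coeff m) ≠ 0 := by
    by_contra hcon
    push Not at hcon
    rw [← sum_coeff π a, map_sum] at ha
    exact ha (Finset.sum_eq_zero fun w _ => hcon w)
  have hzm : z = MonoidAlgebra.single m 1 := by
    have h1 := key ((cj π a).coeff m)
    rw [homog_coeff π a m, MonoidAlgebra.coeff_single, Finsupp.mapRange_single, MonoidAlgebra.ofCoeff_single] at h1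
    have h2 := congrArg (fun y => (φ ((cj π a).coeff m))⁻¹ • y) h1
    simp only [MonoidAlgebra.smul_single, smul_eq_mul, inv_mul_cancel₀ hm, smul_smul, one_smul] at h2
    exact h2.symm
  have hαm : α = chM m := eq_chM (by rw [← hz, hzm])
  refine ⟨m, φ, fun h1 => hne (by rw [hαm, h1, chM_one]), hαm, hφ, hφ0, fun b w hw => ?_⟩
  have h1 := congrArg (fun y : MonoidAlgebra k (Lat r) => y.coeff w) (key b)
  simp [hzm, MonoidAlgebra.coeff_smul, Finsupp.single_apply, Ne.symm hw] at h1
  exact h1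

/-- A derivation supported on one weight gives a root. -/
theorem isRoot_of_isWtDer {m : Lat r} (hm : m ≠ 1) {φ : A →ₗ[k] k} (hφ : IsWtDer π m φ) :
    _root_.LieWt.IsRoot (specHom π) (chM m) := by
  classical
  obtain ⟨hd, hφ0, hw⟩ := hφ
  refine ⟨inferInstance, fun h1 => hm ?_, fun h1 => hφ0 ?_⟩
  · have h2 := congrArg Red.gmFn h1
    rw [← Category.id_comp (chM m), gmFn_chM, Gm.gmFn_one,
      ← map_one (algHomOf (𝟙 (GA k (MonoidAlgebra k (Lat r)))))] at h2
    have h3 := congrArg (fun y : MonoidAlgebra k (Lat r) => y.coeff m)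
      ((bijective_algHomOf_id' (k := k) (MonoidAlgebra k (Lat r))).1 h2)
    simp [MonoidAlgebra.one_def, Finsupp.single_apply, Ne.symm hm] at h3
  · have hmem : (⟨dPt (toConv (derAlg φ hd)), mem_of_der φ hd⟩ : LieS.Lie (GA k A) k (bf k)) ∈
        _root_.LieWt.weightSpOf (specHom π) (chM m) k := by
      intro B' _ _ φ₀ t
      obtain ⟨s, rfl⟩ := toPt_surjective (A := MonoidAlgebra k (Lat r)) (gB B') rfl t
      refine (weight_iff π (chM m) (MonoidAlgebra.single m 1)
        (by rw [← Category.id_comp (chM m), gmFn_chM]) φ hd φ₀ s).2 fun a => ?_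
      have e : MonoidAlgebra.ofCoeff (Finsupp.mapRange φ (map_zero φ) (cj π a).coeff) =
          φ a • MonoidAlgebra.single m 1 := by
        refine MonoidAlgebra.coeff_injective (Finsupp.ext fun w => ?_)
        rw [MonoidAlgebra.coeff_ofCoeff, Finsupp.mapRange_apply, MonoidAlgebra.coeff_smul, Finsupp.smul_apply,
          MonoidAlgebra.coeff_single, Finsupp.single_apply]
        by_cases hwm : m = w
        · subst hwm
          rw [if_pos rfl, smul_eq_mul, _root_.mul_one]
          conv_rhs => rw [← sum_coeff π a, map_sum]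
          refine (Finset.sum_eq_single m (fun v _ hv => hw a v hv) fun hv => ?_).symm
          rw [Finsupp.notMem_support_iff.1 hv, map_zero]
        · rw [if_neg hwm, smul_zero, hw a w (Ne.symm hwm)]
      rw [e, map_smul]
    have h3 := congrArg derOf ((Subgroup.eq_bot_iff_forall _).1 h1 _ hmem)
    rw [derOf_dPt] at h3
    erw [derOf_one] at h3
    refine LinearMap.ext fun a => ?_
    have h4 := LinearMap.congr_fun h3 a
    simpa [(derAlg_apply φ hd a).2] using h4

end

end Groth.Agent.H66.LieWt
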