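import Groth.Agent.H66.LieWt.Coords
import Groth.Agent.H66.Weyl.Roots
import Groth.Agent.H1.Classical.RadUApply

/-!
A reductive group which is not solvable has a root.
-/

set_option autoImplicit false

universe u

open CategoryTheory Limits MonoidalCategory CartesianMonoidalCategory MonObj GrpObj AlgebraicGeometry TensorProduct WithConv
  Groth.Agent.H1.Classical Groth.Agent.H1.Classical.Scheme' Groth.Agent.Lib.RedPts Groth.Agent.Lib.RedPts.Points
  Groth.Agent.Lib.GrpSch Groth.Agent.H66.Weyl Groth.Agent.H1.Classical.Words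

attribute [local instance] Groth.Agent.Lib.RedPts.Points.baseAlgebra

namespace Groth.Agent.H66.LieWt

set_option linter.style.haveILetI false
set_option linter.unusedSectionVars false

noncomputable section

variable {k : Type u} [Field k]

theorem exists_isWtDer_of_weight {A : Type u} [CommRing A] [HopfAlgebra k A] {r : ℕ}
    (π : A →ₐc[k] MonoidAlgebra k (Lat r)) {m : Lat r} (hm : m ≠ 1) {b : A} (hb : Homog π m b)
    (hb1 : b ∈ aug0 (k := k)) (hb2 : b ∉ (aug0 (k := k) (A := A)) ^ 2) : ∃ φ, IsWtDer π m φ := by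
  classical
  obtain ⟨φ, hφ, hφb⟩ := exists_isDer hb1 hb2
  refine ⟨wtPart π m φ, isDer_wtPart π hm hφ, fun h => hφb ?_, fun a w hw => ?_⟩
  · have h1 := LinearMap.congr_fun h b
    change φ ((cj π b).coeff m) = 0 at h1
    rwa [hb, MonoidAlgebra.coeff_single, Finsupp.single_eq_same] at h1
  · show φ ((cj π ((cj π a).coeff w)).coeff m) = 0
    rw [homog_coeff π a w, MonoidAlgebra.coeff_single, Finsupp.single_eq_of_ne' hw, map_zero]

theorem exists_root_of_not_comm {A : Type u} [CommRing A] [HopfAlgebra k A] [Algebra.FiniteType k A] [IsDomain A] {r : ℕ}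
    (π : A →ₐc[k] MonoidAlgebra k (Lat r)) (hG : Red.IsReductive (GA k A)) (hT : Red.IsMaximalTorus (specHom π))
    (hne : ∃ (X : Over (Spec (CommRingCat.of k))) (x y : X ⟶ GA k A), x * y ≠ y * x) :
    ∃ m φ, m ≠ 1 ∧ IsWtDer π m φ := by
  classical
  by_contra hcon
  push Not at hcon
  obtain ⟨X₀, x₀, y₀, hxy⟩ := hne
  refine hxy ?_
  haveI : IsNoetherianRing A := Algebra.FiniteType.isNoetherianRing k A
  have h2 : ∀ m, (MonoidHom.id (Lat r)) m ≠ 1 → ∀ b, Homog π m b → b ∈ aug0 (k := k) →
      b ∈ (aug0 (k := k) (A := A)) ^ 2 := fun m hm b hb hb1 => by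
    by_contra h
    obtain ⟨φ, hφ⟩ := exists_isWtDer_of_weight π hm hb hb1 h
    exact hcon m φ hm hφ
  have hc := central_of_weights π (MonoidHom.id (Lat r)) h2
  have hzero : ∀ v b, (MonoidHom.id (Lat r)) v ≠ 1 → Homog π v b → b = 0 := fun v b hv hb => by
    have h := hc b
    rw [hb, MonoidAlgebra.mapDomain_single] at h
    have h' := congrArg (fun y : MonoidAlgebra A (Lat r) => y.coeff v) h
    simpa [Finsupp.single_apply, Ne.symm hv, show v ≠ 1 from hv] using h'
  haveI := hT.1
  have hcomm : ∀ (X : Over (Spec (CommRingCat.of k))) (x : X ⟶ GA k A) (h : X ⟶ GA k (MonoidAlgebra k (Lat r))),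
      x * (h ≫ specHom π) = (h ≫ specHom π) * x := fun X x h => by
    have hh : h ≫ specHom π = pointOf ((algHomOf h).comp
        ((MonoidAlgebra.mapDomainBialgHom k (MonoidHom.id (Lat r))).comp π : A →ₐc[k] MonoidAlgebra k (Lat r)).toAlgHom) :=
      algHomOf_injective (AlgHom.ext fun a => by
        rw [algHomOf_pointOf, algHomOf_specHom]
        show _ = algHomOf h (MonoidAlgebra.mapDomainBialgHom k (MonoidHom.id (Lat r)) (π a))
        rw [MonoidAlgebra.mapDomainBialgHom_id]
        rfl)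
    have hc' := commute_of_ker π (MonoidHom.id (Lat r)) (algHomOf x)
      (fun v b hv hb => by rw [hzero v b hv hb, map_zero]) (algHomOf h)
    rw [hh, ← pointOf_algHomOf x, pointOf_mul, pointOf_mul]
    exact congrArg (fun F : WithConv (A →ₐ[k] Γ(X.left, ⊤)) => pointOf F.ofConv) hc'.eq
  obtain ⟨t, ht⟩ := ((CentralizerRed.isCentralizerOf_self' hG hT).2.2 (GA k A) (𝟙 (GA k A))).mpr
    fun X x h => by rw [Category.comp_id]; exact hcomm X x h
  rw [show x₀ = (x₀ ≫ t) ≫ specHom π by rw [Category.assoc, ht, Category.comp_id]]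
  exact (hcomm X₀ y₀ (x₀ ≫ t)).symm

end

end Groth.Agent.H66.LieWt
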