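import Groth.Agent.H66.LieWt.RootExists
import Groth.Agent.H66.Weyl.Neg
import Groth.Agent.H1.Classical.CentralizerRed
import Groth.Agent.H1.Classical.ParabolicField
import Groth.Agent.H60.RedLR.Reductive

/-!
Roots of split tori over an algebraic closure.
-/

set_option autoImplicit false

universe u

open CategoryTheory Limits MonoidalCategory CartesianMonoidalCategory MonObj GrpObj AlgebraicGeometry TensorProduct WithConv
  Coalgebra Groth.Agent.H1.Classical Groth.Agent.H1.Classical.Scheme' Groth.Agent.Lib.RedPts Groth.Agent.Lib.RedPts.Points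
  Groth.Agent.Lib.RedPts.BC Groth.Agent.Lib.GrpSch Groth.Agent.H66.Weyl Groth.Agent.H1.Classical.Words Groth.Agent.H60.RedLR

attribute [local instance] Groth.Agent.Lib.RedPts.Points.baseAlgebra

namespace Groth.Agent.H66.LieWt

set_option linter.style.haveILetI false
set_option linter.unusedSectionVars false

noncomputable section

variable {k : Type u} [Field k] (K : Type u) [Field K] [Algebra k K] {A : Type u} [CommRing A] [HopfAlgebra k A]

variable (k) in
/-- The group algebra over a larger field, as an algebra. -/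
def latAlg (H : Type) [CommGroup H] : MonoidAlgebra K H ≃ₐ[K] K ⊗[k] MonoidAlgebra k H :=
  (MonoidAlgebra.scalarTensorEquiv k K (M := H)).symm

theorem latAlg_single {H : Type} [CommGroup H] (m : H) :
    latAlg k K H (MonoidAlgebra.single m 1) = (1 : K) ⊗ₜ[k] MonoidAlgebra.single m (1 : k) :=
  MonoidAlgebra.scalarTensorEquiv_symm_single (R := k) (A := K) m 1

theorem latAlg_symm_tmul {H : Type} [CommGroup H] (p : MonoidAlgebra k H) :
    (latAlg k K H).symm ((1 : K) ⊗ₜ[k] p) = MonoidAlgebra.mapAlgHom H (Algebra.ofId k K) p := by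
  show MonoidAlgebra.scalarTensorEquiv k K (M := H) ((1 : K) ⊗ₜ[k] p) = _
  rw [MonoidAlgebra.scalarTensorEquiv_tmul, one_smul]

variable (k) in
/-- The group algebra over a larger field. -/
def bcLat (H : Type) [CommGroup H] : MonoidAlgebra K H ≃ₐc[K] K ⊗[k] MonoidAlgebra k H :=
  BialgEquiv.ofAlgEquiv (latAlg k K H)
    (MonoidAlgebra.algHom_ext (fun m => by
      show counit (R := K) (latAlg k K H (MonoidAlgebra.single m 1)) = counit (R := K) (MonoidAlgebra.single m (1 : K))
      rw [latAlg_single, TensorProduct.counit_tmul]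
      simp) (by ext))
    (MonoidAlgebra.algHom_ext (fun m => by
      show Algebra.TensorProduct.map (latAlg k K H).toAlgHom (latAlg k K H).toAlgHom
          (comul (R := K) (MonoidAlgebra.single m (1 : K))) =
          comul (R := K) (latAlg k K H (MonoidAlgebra.single m 1))
      rw [latAlg_single, comul_one_tmul, MonoidAlgebra.comul_single, MonoidAlgebra.comul_single]
      simp [latAlg_single]) (by ext))

variable {r : ℕ} (π : A →ₐc[k] MonoidAlgebra k (Lat r))

/-- The torus over the larger field. -/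
def bcPi : K ⊗[k] A →ₐc[K] MonoidAlgebra K (Lat r) :=
  (bcLat k K (Lat r)).symm.toBialgHom.comp (Bialgebra.TensorProduct.map (BialgHom.id K K) π)

theorem bcPi_one_tmul (a : A) :
    bcPi K π ((1 : K) ⊗ₜ[k] a) = MonoidAlgebra.mapAlgHom (Lat r) (Algebra.ofId k K) (π a) := by
  exact latAlg_symm_tmul K (π a)

theorem bcPi_surjective (hπ : Function.Surjective π) : Function.Surjective (bcPi K π) := fun z => by
  obtain ⟨w, rfl⟩ : ∃ w, (bcLat k K (Lat r)).symm w = z := ⟨bcLat k K (Lat r) z, (bcLat k K (Lat r)).symm_apply_apply z⟩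
  induction w using TensorProduct.induction_on with
  | zero => exact ⟨0, by simp⟩
  | add x y hx hy =>
    obtain ⟨x', hx⟩ := hx
    obtain ⟨y', hy⟩ := hy
    exact ⟨x' + y', by rw [map_add, map_add, hx, hy]⟩
  | tmul c y =>
    obtain ⟨a, rfl⟩ := hπ y
    exact ⟨c ⊗ₜ a, rfl⟩

/-- The inclusion of the coefficients. -/
def incK : MonoidAlgebra A (Lat r) →ₐ[k] MonoidAlgebra (K ⊗[k] A) (Lat r) :=
  MonoidAlgebra.mapAlgHom (Lat r) (Algebra.TensorProduct.includeRight : A →ₐ[k] K ⊗[k] A)

theorem incK_single (m : Lat r) (b : A) :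
    incK (k := k) K (MonoidAlgebra.single m b) = MonoidAlgebra.single m ((1 : K) ⊗ₜ[k] b) := by
  simp [incK]

theorem coeff_incK (y : MonoidAlgebra A (Lat r)) (m : Lat r) :
    (incK (k := k) K y).coeff m = (1 : K) ⊗ₜ[k] y.coeff m := by
  induction y using MonoidAlgebra.induction_linear with
  | zero => simp
  | add p q hp hq =>
    simp only [map_add, MonoidAlgebra.coeff_add, Finsupp.add_apply, hp, hq, TensorProduct.tmul_add]
  | single v b =>
    rw [incK_single, MonoidAlgebra.coeff_single, MonoidAlgebra.coeff_single, Finsupp.single_apply, Finsupp.single_apply]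
    split_ifs <;> simp

/-- Restriction of algebra maps to the smaller group. -/
def resK {C : Type u} [CommRing C] [Algebra K C] [Algebra k C] [IsScalarTower k K C] :
    WithConv (K ⊗[k] A →ₐ[K] C) →* WithConv (A →ₐ[k] C) :=
  MonoidHom.mk' (fun f => toConv ((f.ofConv.restrictScalars k).comp Algebra.TensorProduct.includeRight)) fun f g => by
    refine ofConv_injective (AlgHom.ext fun a => ?_)
    show (f * g).ofConv ((1 : K) ⊗ₜ[k] a) = (toConv ((f.ofConv.restrictScalars k).comp Algebra.TensorProduct.includeRight) *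
      toConv ((g.ofConv.restrictScalars k).comp Algebra.TensorProduct.includeRight)).ofConv a
    rw [AlgHom.convMul_apply, AlgHom.convMul_apply, comul_one_tmul]
    generalize comul (R := k) a = t
    induction t using TensorProduct.induction_on with
    | zero => simp
    | add p q hp hq => simp only [TensorProduct.tmul_add, map_add, hp, hq]
    | tmul p q =>
      rw [TensorProduct.AlgebraTensorModule.tensorTensorTensorComm_tmul]
      simp

theorem cj_bcPi (a : A) : cj (bcPi K π) ((1 : K) ⊗ₜ[k] a) = incK (k := k) K (cj π a) := by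
  have h1 : resK (k := k) K (toConv (incl (k := K) (K ⊗[k] A) (Lat r))) =
      push (incK (k := k) K) (toConv (incl (k := k) A (Lat r))) := by
    refine ofConv_injective (AlgHom.ext fun b => ?_)
    show incl (k := K) (K ⊗[k] A) (Lat r) ((1 : K) ⊗ₜ[k] b) = incK (k := k) K (incl (k := k) A (Lat r) b)
    exact (incK_single K 1 b).symm
  have h2 : resK (k := k) K (toConv (tor (bcPi K π))) = push (incK (k := k) K) (toConv (tor π)) := by
    refine ofConv_injective (AlgHom.ext fun b => ?_)
    show iota (bcPi K π ((1 : K) ⊗ₜ[k] b)) = incK (k := k) K (iota (π b))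
    rw [bcPi_one_tmul]
    generalize (π b : MonoidAlgebra k (Lat r)) = z
    induction z using MonoidAlgebra.induction_linear with
    | zero => simp
    | add x y hx hy => simp only [map_add, hx, hy]
    | single m c =>
      rw [iota_single, incK_single, MonoidAlgebra.mapAlgHom_single, iota_single]
      congr 1
      exact (IsScalarTower.algebraMap_apply k K (K ⊗[k] A) c).symm.trans
        ((Algebra.TensorProduct.includeRight : A →ₐ[k] K ⊗[k] A).commutes c).symm
  have h : resK (k := k) K (toConv (cj (bcPi K π))) = push (incK (k := k) K) (toConv (cj π)) := by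
    rw [show toConv (cj π) = toConv (tor π) * toConv (incl A (Lat r)) * (toConv (tor π))⁻¹ from rfl,
      show toConv (cj (bcPi K π)) = toConv (tor (bcPi K π)) * toConv (incl (k := K) (K ⊗[k] A) (Lat r)) *
        (toConv (tor (bcPi K π)))⁻¹ from rfl, map_mul, map_mul, map_mul, map_mul, map_inv, map_inv, h1, h2]
  exact congrArg (fun q : WithConv (A →ₐ[k] MonoidAlgebra (K ⊗[k] A) (Lat r)) => q.ofConv a) h

theorem coeff_cj_bcPi (a : A) (m : Lat r) :
    (cj (bcPi K π) ((1 : K) ⊗ₜ[k] a)).coeff m = (1 : K) ⊗ₜ[k] (cj π a).coeff m := by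
  rw [cj_bcPi, coeff_incK]

theorem counit_one_tmul (a : A) : counit (R := K) ((1 : K) ⊗ₜ[k] a) = algebraMap k K (counit (R := k) a) := by
  rw [TensorProduct.counit_tmul, CommSemiring.counit_apply, Algebra.smul_def, _root_.mul_one]

/-- A root becomes a weight of the cotangent space. -/
theorem mem_roots_bcPi {m : Lat r} (hm : m ≠ 1) {φ : A →ₗ[k] k} (hφ : IsWtDer π m φ) : m ∈ Roots (bcPi K π) := by
  obtain ⟨hd, hne, hw⟩ := hφ
  obtain ⟨a, ha⟩ : ∃ a, φ a ≠ 0 := by
    by_contra hcon
    push Not at hcon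
    exact hne (LinearMap.ext hcon)
  let b := (cj π a).coeff m
  have hb : φ b ≠ 0 := by
    intro h0
    refine ha ?_
    rw [← sum_coeff π a, map_sum]
    exact Finset.sum_eq_zero fun v _ => by
      by_cases hv : v = m
      · subst hv; exact h0
      · exact hw a v hv
  have hhom : Homog (bcPi K π) m ((1 : K) ⊗ₜ[k] b) := by
    show cj (bcPi K π) _ = _
    rw [cj_bcPi, homog_coeff π a m, incK_single]
  refine ⟨hm, _, hhom, homog_mem_aug0 _ hm hhom, fun h2 => hb ?_⟩
  let φK : K ⊗[k] A →ₗ[K] K :=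
    (TensorProduct.AlgebraTensorModule.rid k K K).toLinearMap ∘ₗ
      TensorProduct.AlgebraTensorModule.map (LinearMap.id : K →ₗ[K] K) φ
  have hφK : ∀ (c : K) (x : A), φK (c ⊗ₜ x) = φ x • c := fun c x => rfl
  have hdK : IsDer φK := by
    intro x y
    induction x using TensorProduct.induction_on with
    | zero => simp
    | add p q hp hq => simp only [add_mul, map_add, hp, hq]; ring
    | tmul c u =>
      induction y using TensorProduct.induction_on with
      | zero => simp
      | add p q hp hq => simp only [mul_add, map_add, hp, hq]; ring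
      | tmul d v =>
        rw [Algebra.TensorProduct.tmul_mul_tmul, hφK, hd, hφK, hφK, TensorProduct.counit_tmul, TensorProduct.counit_tmul,
          CommSemiring.counit_apply, CommSemiring.counit_apply]
        simp only [Algebra.smul_def, map_add, map_mul]
        ring
  have h3 : ∀ x ∈ (aug0 (k := K) (A := K ⊗[k] A)) ^ 2, φK x = 0 := by
    intro x hx
    rw [pow_two] at hx
    induction hx using Submodule.mul_induction_on' with
    | mem_mul_mem x hx y hy =>
      rw [hdK, show counit (R := K) x = 0 from hx, show counit (R := K) y = 0 from hy, mul_zero, zero_mul, add_zero]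
    | add x _ y _ hx hy => rw [map_add, hx, hy, add_zero]
  have h4 := h3 _ h2
  rw [hφK, smul_eq_zero] at h4
  exact h4.resolve_right one_ne_zero

/-- A weight over the larger field gives one over the smaller field. -/
theorem exists_isWtDer_of_bcPi {m : Lat r} {ψ : K ⊗[k] A →ₗ[K] K} (hψ : IsWtDer (bcPi K π) m ψ) :
    ∃ φ, IsWtDer π m φ := by
  obtain ⟨hd, hne, hw⟩ := hψ
  obtain ⟨a, ha⟩ : ∃ a, ψ ((1 : K) ⊗ₜ[k] a) ≠ 0 := by
    by_contra hcon
    push Not at hcon
    refine hne (TensorProduct.AlgebraTensorModule.ext fun c x => ?_)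
    rw [← _root_.mul_one c, ← smul_eq_mul, ← TensorProduct.smul_tmul', map_smul, hcon, smul_zero, LinearMap.zero_apply]
  obtain ⟨ℓ, hℓ⟩ : ∃ ℓ : Module.Dual k K, ℓ (ψ ((1 : K) ⊗ₜ[k] a)) ≠ 0 := by
    by_contra hcon
    push Not at hcon
    exact ha ((Module.forall_dual_apply_eq_zero_iff k _).1 hcon)
  let φ : A →ₗ[k] k := ℓ ∘ₗ (ψ.restrictScalars k) ∘ₗ (TensorProduct.mk k K A (1 : K))
  refine ⟨φ, fun x y => ?_, fun h => hℓ (LinearMap.congr_fun h a), fun b w hwm => ?_⟩
  · show ℓ (ψ ((1 : K) ⊗ₜ[k] (x * y))) = _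
    rw [← _root_.mul_one (1 : K), ← Algebra.TensorProduct.tmul_mul_tmul, hd, counit_one_tmul,
      counit_one_tmul, map_add, mul_comm (ψ _), ← Algebra.smul_def, ← Algebra.smul_def, map_smul, map_smul]
    show _ = ℓ (ψ _) * _ + _ * ℓ (ψ _)
    simp only [smul_eq_mul, TensorProduct.mk_apply]
    ring
  · show ℓ (ψ ((1 : K) ⊗ₜ[k] (cj π b).coeff w)) = 0
    rw [← coeff_cj_bcPi, hw _ w hwm, map_zero]

omit [Algebra k K] in
theorem algHomOf_specHom_apply {B C : Type u} [CommRing B] [HopfAlgebra K B] [CommRing C] [HopfAlgebra K C]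
    (g : B →ₐc[K] C) (b : B) : algHomOf (specHom g) b = algHomOf (𝟙 (GA K C)) (g b) := by
  rw [← algHomOf_specHom, Category.id_comp]

theorem isMaxTorus_transfer {S : Scheme.{u}} {T T' G G' : Over S} [GrpObj T] [GrpObj T'] [GrpObj G] [GrpObj G']
    (dT : T' ≅ T) [IsMonHom dT.hom] (eG : G' ≅ G) [IsMonHom eG.hom] (i : T ⟶ G) (i' : T' ⟶ G')
    (h : i' ≫ eG.hom = dT.hom ≫ i) (hT : AGF.IsMaxTorus i) : AGF.IsMaxTorus i' := by
  obtain ⟨hm, hmono, hTT, hmax⟩ := hT
  haveI := hm
  haveI := hmono
  haveI : IsMonHom dT.inv := inferInstance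
  haveI : IsMonHom eG.inv := inferInstance
  have hh : i' = (dT.hom ≫ i) ≫ eG.inv := by rw [← h, Category.assoc, Iso.hom_inv_id, Category.comp_id]
  subst hh
  refine ⟨inferInstance, inferInstance, Groth.Agent.Lib.Tori.Basic.isTorus_congr
    (Groth.Agent.Lib.Tori.BaseChange.grpIso dT) hTT, fun T'' _ j _ _ f hT'' hf => ?_⟩
  haveI h1 : IsIso (dT.inv ≫ f) := hmax T'' (j ≫ eG.hom) (dT.inv ≫ f) hT'' (by
    rw [Category.assoc, ← Category.assoc f, hf]
    simp only [Category.assoc, Iso.inv_hom_id, Category.comp_id, Iso.inv_hom_id_assoc])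
  have h2 : f = dT.hom ≫ (dT.inv ≫ f) := (dT.hom_inv_id_assoc f).symm
  rw [h2]
  exact @IsIso.comp_isIso _ _ _ _ _ _ _ dT.isIso_hom h1

variable (k) in
/-- The split torus over the larger field. -/
def latIsoK (H : Type) [CommGroup H] : GA K (MonoidAlgebra K H) ≅ GA K (K ⊗[k] MonoidAlgebra k H) where
  hom := specHom (bcLat k K H).symm.toBialgHom
  inv := specHom (bcLat k K H).toBialgHom
  hom_inv_id := algHomOf_injective (AlgHom.ext fun a => by
    rw [algHomOf_specHom, ← Category.id_comp (specHom (bcLat k K H).symm.toBialgHom), algHomOf_specHom]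
    exact congrArg _ ((bcLat k K H).symm_apply_apply a))
  inv_hom_id := algHomOf_injective (AlgHom.ext fun a => by
    rw [algHomOf_specHom, ← Category.id_comp (specHom (bcLat k K H).toBialgHom), algHomOf_specHom]
    exact congrArg _ ((bcLat k K H).apply_symm_apply a))

instance isMonHom_latIsoK (H : Type) [CommGroup H] : IsMonHom (latIsoK k K H).hom :=
  inferInstanceAs (IsMonHom (specHom (bcLat k K H).symm.toBialgHom))

theorem specHom_bcPi_comp :
    specHom (bcPi K π) ≫ bcComp k A K =
      ((latIsoK k K (Lat r)).hom ≫ bcComp k (MonoidAlgebra k (Lat r)) K) ≫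
        (Over.pullback (extBase k K)).map (specHom π) := by
  apply BC.down_injective
  rw [BC.down_comp, Category.assoc, BC.down_comp, BC.down_map, bcComp, bcComp, BC.down_up, BC.down_up]
  refine algHomOf_injective (AlgHom.ext fun a => ?_)
  rw [CentralTorus.algHomOf_bcDown, ← Category.assoc, algHomOf_specHom, CentralTorus.algHomOf_bcDown]
  refine (algHomOf_specHom_apply K (bcPi K π) _).trans ?_
  exact (algHomOf_specHom_apply K (B := K ⊗[k] MonoidAlgebra k (Lat r)) (C := MonoidAlgebra K (Lat r))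
    (bcLat k K (Lat r)).symm.toBialgHom _).symm

theorem isReductiveOver_bcPi [IsAlgClosed K] (σ : Spec (CommRingCat.of K) ⟶ Spec (CommRingCat.of k))
    (hσ : σ = extBase k K) (hG : Red.IsReductiveOver K (Red.bc σ (GA k A))) :
    Red.IsReductiveOver K (GA K (K ⊗[k] A)) := by
  subst hσ
  haveI : IsMonHom (asIso (bcComp k A K)).hom := inferInstanceAs (IsMonHom (bcComp k A K))
  haveI : IsMonHom (asIso (bcComp k A K)).symm.hom := inferInstanceAs (IsMonHom (asIso (bcComp k A K)).inv)
  exact isReductiveOver_congr (asIso (bcComp k A K)).symm hG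

theorem isMaxTorus_bcPi [IsAlgClosed K] (σ : Spec (CommRingCat.of K) ⟶ Spec (CommRingCat.of k))
    (hσ : σ = extBase k K) (hT : AGF.IsMaxTorus ((Over.pullback σ).map (specHom π))) :
    AGF.IsMaxTorus (specHom (bcPi K π)) := by
  subst hσ
  haveI : IsMonHom (asIso (bcComp k A K)).hom := inferInstanceAs (IsMonHom (bcComp k A K))
  let dK : GA K (MonoidAlgebra K (Lat r)) ≅ Red.bc (extBase k K) (GA k (MonoidAlgebra k (Lat r))) :=
    latIsoK k K (Lat r) ≪≫ asIso (bcComp k (MonoidAlgebra k (Lat r)) K)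
  haveI : IsMonHom dK.hom :=
    inferInstanceAs (IsMonHom ((latIsoK k K (Lat r)).hom ≫ bcComp k (MonoidAlgebra k (Lat r)) K))
  exact isMaxTorus_transfer dK (asIso (bcComp k A K)) _ _ (specHom_bcPi_comp K π) hT

/-- The opposite of a root is a root. -/
theorem exists_isWtDer_inv [Algebra.FiniteType k A] [IsDomain A] (hπ : Function.Surjective π)
    (hG : Red.IsReductive (GA k A)) (hT : Red.IsMaximalTorus (specHom π)) {m : Lat r} (hm : m ≠ 1) {φ : A →ₗ[k] k}
    (hφ : IsWtDer π m φ) : ∃ φ', IsWtDer π m⁻¹ φ' := by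
  let s : Spec (CommRingCat.of k) := IsLocalRing.closedPoint k
  obtain ⟨alg, halg, hσ⟩ := exists_geomPt_eq s
  let L := AlgebraicClosure ((Spec (CommRingCat.of k)).residueField s)
  haveI : Smooth (GA k A).hom := hG.2.1
  haveI : ConnectedSpace (GA k A).left := Groth.Agent.H60.OrbDim.connectedSpace_of_isReductive hG
  haveI := (CentralTorus.bc_ga_props (k := k) (A := A) (K := L)).1
  have hGK := isReductiveOver_bcPi (k := k) (A := A) L _ hσ (hG.2.2 s)
  have hTK := isMaxTorus_bcPi L π _ hσ (CentralizerRed.isMaxTorus_fibre hT s)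
  obtain ⟨-, b, hb, hb1, hb2⟩ := inv_mem_roots (bcPi L π) hGK (bcPi_surjective L π hπ) hTK (mem_roots_bcPi L π hm hφ)
  obtain ⟨ψ, hψ⟩ := exists_isWtDer_of_weight (bcPi L π) (inv_ne_one.2 hm) hb hb1 hb2
  exact exists_isWtDer_of_bcPi L π hψ

end

end Groth.Agent.H66.LieWt
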