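import Mathlib.RingTheory.Bialgebra.MonoidAlgebra
import Mathlib.RingTheory.Filtration
import Mathlib.RingTheory.HopfAlgebra.Convolution
import Mathlib.LinearAlgebra.Dual.Lemmas
import Groth.Agent.H1.Classical.Words
import Mathlib.Tactic

/-!
Weights of a split torus for the conjugation on the coordinate ring of a connected affine group.
-/

set_option autoImplicit false

universe u v

open TensorProduct WithConv Coalgebra
open Groth.Agent.H1.Classical.Words

namespace Groth.Agent.H66.LieWt

set_option linter.style.haveILetI false
set_option linter.unusedSectionVars false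

noncomputable section

variable {k : Type u} [Field k] {A : Type u} [CommRing A] [HopfAlgebra k A]

/-- The convolution product of two functionals. -/
def conv (φ ψ : A →ₗ[k] k) : A →ₗ[k] k :=
  LinearMap.mul' k k ∘ₗ TensorProduct.map φ ψ ∘ₗ comul (R := k)

/-- A derivation at the unit. -/
def IsDer (φ : A →ₗ[k] k) : Prop :=
  ∀ a b : A, φ (a * b) = φ a * counit (R := k) b + counit (R := k) a * φ b

/-- The commutator with a derivation. -/
def adD (ξ : A →ₗ[k] k) (φ : A →ₗ[k] k) : A →ₗ[k] k := conv ξ φ - conv φ ξ

theorem IsDer.map_one {φ : A →ₗ[k] k} (h : IsDer φ) : φ 1 = 0 := by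
  have := h 1 1
  rw [_root_.one_mul, Bialgebra.counit_one, _root_.mul_one, _root_.one_mul] at this
  simpa using this

variable {M : Type v} [CommGroup M] (π : A →ₐc[k] MonoidAlgebra k M)

/-- An additive function on the exponents as a functional. -/
def dl (δ : M → k) : MonoidAlgebra k M →ₗ[k] k :=
  (Finsupp.linearCombination k δ) ∘ₗ (MonoidAlgebra.coeffLinearEquiv k).toLinearMap

theorem dl_single (δ : M → k) (m : M) (r : k) : dl δ (MonoidAlgebra.single m r) = r * δ m := by
  simp [dl]

/-- The derivation of an additive function on the exponents. -/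
def dd (δ : M → k) : A →ₗ[k] k := dl δ ∘ₗ π.toAlgHom.toLinearMap

theorem isDer_dd (δ : M → k) (hδ : ∀ a b, δ (a * b) = δ a + δ b) : IsDer (dd π δ) := by
  intro a b
  have key : ∀ x y : MonoidAlgebra k M,
      dl δ (x * y) = dl δ x * counit (R := k) y + counit (R := k) x * dl δ y := by
    intro x y
    induction x using MonoidAlgebra.induction_linear with
    | zero => simp
    | add x x' hx hx' => simp only [map_add, add_mul, hx, hx']; ring
    | single m r =>
      induction y using MonoidAlgebra.induction_linear with
      | zero => simp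
      | add y y' hy hy' => simp only [map_add, mul_add, hy, hy']; ring
      | single n s =>
        rw [MonoidAlgebra.single_mul_single, dl_single, dl_single, dl_single, hδ,
          MonoidAlgebra.counit_single, MonoidAlgebra.counit_single]
        simp only [CommSemiring.counit_apply]
        ring
  have hc : ∀ x : A, counit (R := k) (π x) = counit (R := k) x := CoalgHomClass.counit_comp_apply π
  simp only [dd, LinearMap.comp_apply, AlgHom.toLinearMap_apply]
  rw [map_mul, key]
  exact congrArg₂ (fun p q => dl δ (π a) * p + q * dl δ (π b)) (hc b) (hc a)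

/-- The scalar inclusion of the coordinate ring. -/
def incl (A : Type u) [CommRing A] [HopfAlgebra k A] (M : Type v) [CommGroup M] : A →ₐ[k] MonoidAlgebra A M :=
  MonoidAlgebra.singleOneAlgHom

/-- The inclusion of the group algebra. -/
def iota : MonoidAlgebra k M →ₐ[k] MonoidAlgebra A M :=
  MonoidAlgebra.lift k (MonoidAlgebra A M) M (MonoidAlgebra.of A M)

theorem iota_single (m : M) (r : k) :
    iota (A := A) (MonoidAlgebra.single m r) = MonoidAlgebra.single m (algebraMap k A r) := by
  rw [iota, MonoidAlgebra.lift_single, MonoidAlgebra.of_apply, MonoidAlgebra.smul_single, Algebra.algebraMap_eq_smul_one]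

/-- The point of the torus in the group algebra. -/
def tor : A →ₐ[k] MonoidAlgebra A M := iota.comp π.toAlgHom

/-- Conjugation by the torus. -/
def cj : A →ₐ[k] MonoidAlgebra A M := (toConv (tor π) * toConv (incl A M) * (toConv (tor π))⁻¹).ofConv

theorem cj_mul : toConv (cj π) * toConv (tor π) = toConv (tor π) * toConv (incl A M) := by
  rw [cj, toConv_ofConv, inv_mul_cancel_right]

section Comp

variable {R : Type*} {R' : Type*} [CommRing R] [Algebra k R] [CommRing R'] [Algebra k R']

/-- Change of the values. -/
def post (h : R →ₐ[k] R') : WithConv (A →ₐ[k] R) →* WithConv (A →ₐ[k] R') :=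
  MonoidHom.mk' (fun f : WithConv (A →ₐ[k] R) => toConv (h.comp f.ofConv)) fun f g => congrArg toConv (AlgHom.comp_convMul_distrib h f g)

theorem post_apply (h : R →ₐ[k] R') (f : A →ₐ[k] R) : post h (toConv f) = toConv (h.comp f) := rfl

theorem pre_mul (f g h : MonoidAlgebra k M →ₐ[k] R)
    (hfg : ∀ m, f (MonoidAlgebra.single m 1) * g (MonoidAlgebra.single m 1) = h (MonoidAlgebra.single m 1)) :
    toConv (f.comp π.toAlgHom) * toConv (g.comp π.toAlgHom) = toConv (h.comp π.toAlgHom) := by
  refine ofConv_injective (AlgHom.ext fun a => ?_)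
  rw [AlgHom.convMul_apply]
  have hc : TensorProduct.map π.toAlgHom.toLinearMap π.toAlgHom.toLinearMap (comul (R := k) a) =
      comul (R := k) (π a) := CoalgHomClass.map_comp_comul_apply π a
  have key : ∀ z : MonoidAlgebra k M,
      LinearMap.mul' k R (TensorProduct.map f.toLinearMap g.toLinearMap (comul (R := k) z)) = h z := by
    intro z
    induction z using MonoidAlgebra.induction_linear with
    | zero => simp
    | add x y hx hy => simp only [map_add, hx, hy]
    | single m r =>
      rw [← _root_.mul_one r, ← smul_eq_mul, ← MonoidAlgebra.smul_single, map_smul, map_smul, map_smul, map_smul,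
        MonoidAlgebra.comul_single]
      simp [hfg]
  show _ = h (π a)
  rw [← key, ← hc]
  generalize comul (R := k) a = z
  induction z using TensorProduct.induction_on with
  | zero => simp
  | add x y hx hy => simp only [map_add, hx, hy]
  | tmul x y => simp

end Comp

/-- The first inclusion of the pairs. -/
def i₁ : MonoidAlgebra A M →ₐ[k] MonoidAlgebra A (M × M) :=
  (MonoidAlgebra.mapDomainAlgHom A A (MonoidHom.inl M M)).restrictScalars k

/-- The diagonal on the pairs. -/
def dg : MonoidAlgebra A M →ₐ[k] MonoidAlgebra A (M × M) :=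
  (MonoidAlgebra.mapDomainAlgHom A A ((MonoidHom.id M).prod (MonoidHom.id M))).restrictScalars k

/-- Conjugation applied to the coefficients. -/
def cc : MonoidAlgebra A M →ₐ[k] MonoidAlgebra A (M × M) :=
  MonoidAlgebra.liftNCAlgHom (i₁.comp (cj π)) ((MonoidAlgebra.of A (M × M)).comp (MonoidHom.inr M M))
    fun _ _ => Commute.all _ _

theorem i₁_single (m : M) (b : A) : i₁ (k := k) (MonoidAlgebra.single m b) = MonoidAlgebra.single (m, 1) b := by
  simp [i₁]

theorem dg_single (m : M) (b : A) : dg (k := k) (MonoidAlgebra.single m b) = MonoidAlgebra.single (m, m) b := by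
  simp [dg]

theorem cc_single (v : M) (b : A) : cc π (MonoidAlgebra.single v b) =
    MonoidAlgebra.mapDomain (fun u => (u, v)) (cj π b) := by
  have h0 : cc π (MonoidAlgebra.single v b) = i₁ (k := k) (cj π b) * MonoidAlgebra.single ((1 : M), v) 1 := by
    simp [cc, MonoidAlgebra.liftNCAlgHom, MonoidAlgebra.liftNCRingHom]
  rw [h0]
  induction cj π b using MonoidAlgebra.induction_linear with
  | zero => simp
  | add x y hx hy => simp only [map_add, add_mul, hx, hy, MonoidAlgebra.mapDomain_add]
  | single u x => simp [i₁_single]

theorem cc_comp_cj : (cc π).comp (cj π) = dg.comp (cj π) := by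
  have ht : post (cc π) (toConv (tor π)) = toConv ((MonoidAlgebra.lift k (MonoidAlgebra A (M × M)) M
      ((MonoidAlgebra.of A (M × M)).comp (MonoidHom.inr M M))).comp π.toAlgHom) := by
    rw [post_apply, tor, ← AlgHom.comp_assoc]
    congr 2
    refine MonoidAlgebra.algHom_ext (fun m => ?_) (by ext)
    rw [AlgHom.comp_apply, iota_single, map_one, cc_single, map_one]
    simp [MonoidAlgebra.one_def]
  have ht₁ : post (i₁ (k := k) (A := A) (M := M)) (toConv (tor π)) = toConv ((MonoidAlgebra.lift k (MonoidAlgebra A (M × M)) M
      ((MonoidAlgebra.of A (M × M)).comp (MonoidHom.inl M M))).comp π.toAlgHom) := by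
    rw [post_apply, tor, ← AlgHom.comp_assoc]
    congr 2
    refine MonoidAlgebra.algHom_ext (fun m => ?_) (by ext)
    rw [AlgHom.comp_apply, iota_single, map_one, i₁_single]
    simp
  have ht₂ : post (dg (k := k) (A := A) (M := M)) (toConv (tor π)) = toConv ((MonoidAlgebra.lift k (MonoidAlgebra A (M × M)) M
      ((MonoidAlgebra.of A (M × M)).comp ((MonoidHom.id M).prod (MonoidHom.id M)))).comp π.toAlgHom) := by
    rw [post_apply, tor, ← AlgHom.comp_assoc]
    congr 2
    refine MonoidAlgebra.algHom_ext (fun m => ?_) (by ext)
    rw [AlgHom.comp_apply, iota_single, map_one, dg_single]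
    simp
  have hg : post (cc π) (toConv (incl A M)) = post (i₁ (k := k)) (toConv (cj π)) := by
    rw [post_apply, post_apply]
    refine congrArg toConv (AlgHom.ext fun a => ?_)
    show cc π (MonoidAlgebra.single 1 a) = i₁ (k := k) (cj π a)
    rw [cc_single]
    induction cj π a using MonoidAlgebra.induction_linear with
    | zero => simp
    | add x y hx hy => simp only [map_add, hx, hy, MonoidAlgebra.mapDomain_add]
    | single u x => simp [i₁_single]
  have hg₁ : post (i₁ (k := k)) (toConv (incl A M)) = post (dg (k := k)) (toConv (incl A M)) := by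
    rw [post_apply, post_apply]
    refine congrArg toConv (AlgHom.ext fun a => ?_)
    show i₁ (k := k) (MonoidAlgebra.single 1 a) = dg (k := k) (MonoidAlgebra.single 1 a)
    rw [i₁_single, dg_single]
  have hmul : post (cc π) (toConv (tor π)) * post (i₁ (k := k)) (toConv (tor π)) =
      post (dg (k := k)) (toConv (tor π)) := by
    rw [ht, ht₁, ht₂]
    exact pre_mul π _ _ _ fun m => by simp
  apply toConv_injective
  calc toConv ((cc π).comp (cj π)) = post (cc π) (toConv (cj π)) := rfl
    _ = post (dg (k := k)) (toConv (cj π)) := by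
      rw [show toConv (cj π) = toConv (tor π) * toConv (incl A M) * (toConv (tor π))⁻¹ from rfl]
      simp only [map_mul, map_inv]
      rw [hg, show toConv (cj π) = toConv (tor π) * toConv (incl A M) * (toConv (tor π))⁻¹ from rfl]
      simp only [map_mul, map_inv]
      rw [← hmul, hg₁]
      group
    _ = _ := rfl

/-- A homogeneous element for the conjugation. -/
def Homog (w : M) (a : A) : Prop := cj π a = MonoidAlgebra.single w a

theorem homog_coeff (a : A) (w : M) : Homog π w ((cj π a).coeff w) := by
  classical
  have h := AlgHom.congr_fun (cc_comp_cj π) a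
  rw [AlgHom.comp_apply, AlgHom.comp_apply] at h
  have hcc : ∀ (y : MonoidAlgebra A M) (u v : M),
      (cc π y).coeff (u, v) = (cj π (y.coeff v)).coeff u := by
    intro y u v
    induction y using MonoidAlgebra.induction_linear with
    | zero => simp
    | add x y hx hy => simp [hx, hy]
    | single v' b =>
      rw [cc_single]
      by_cases hv : v' = v
      · subst hv
        rw [MonoidAlgebra.coeff_mapDomain, Finsupp.mapDomain_apply (fun p q hpq => (Prod.ext_iff.1 hpq).1)]
        simp
      · rw [MonoidAlgebra.coeff_mapDomain, Finsupp.mapDomain_notin_range _ _ (by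
          rintro ⟨p, hp⟩; exact hv (Prod.ext_iff.1 hp).2)]
        simp [hv]
  have hdg : ∀ (y : MonoidAlgebra A M) (u v : M),
      (dg (k := k) y).coeff (u, v) = if u = v then y.coeff v else 0 := by
    intro y u v
    induction y using MonoidAlgebra.induction_linear with
    | zero => simp
    | add x y hx hy => simp only [map_add, MonoidAlgebra.coeff_add, Finsupp.add_apply, hx, hy]; split_ifs <;> simp
    | single v' b =>
      rw [dg_single, MonoidAlgebra.coeff_single, MonoidAlgebra.coeff_single, Finsupp.single_apply, Finsupp.single_apply]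
      simp only [Prod.mk.injEq]
      split_ifs <;> grind
  refine MonoidAlgebra.coeff_injective (Finsupp.ext fun u => ?_)
  rw [← hcc, h, hdg, MonoidAlgebra.coeff_single, Finsupp.single_apply]
  grind

/-- The sum of all coefficients. -/
def aug : MonoidAlgebra A M →ₐ[k] A := ((MonoidAlgebra.lift A A M) (1 : M →* A)).restrictScalars k

theorem aug_single (m : M) (b : A) : aug (k := k) (MonoidAlgebra.single m b) = b := by
  simp [aug]

theorem aug_cj (a : A) : aug (k := k) (cj π a) = a := by
  have ht : (aug (k := k) (A := A) (M := M)).comp (tor π) = (1 : WithConv (A →ₐ[k] A)).ofConv := by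
    refine AlgHom.ext fun x => ?_
    rw [AlgHom.convOne_def]
    show aug (k := k) (iota (π x)) = algebraMap k A (counit (R := k) x)
    rw [← CoalgHomClass.counit_comp_apply π x]
    generalize (π x : MonoidAlgebra k M) = z
    induction z using MonoidAlgebra.induction_linear with
    | zero => simp
    | add p q hp hq => simp only [map_add, hp, hq]
    | single m r => rw [iota_single, aug_single, MonoidAlgebra.counit_single]; simp
  have h : (aug (k := k) (A := A) (M := M)).comp (cj π) = AlgHom.id k A := by
    apply toConv_injective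
    rw [← post_apply, show toConv (cj π) = toConv (tor π) * toConv (incl A M) * (toConv (tor π))⁻¹ from rfl,
      map_mul, map_mul, map_inv, post_apply, post_apply, ht, toConv_ofConv, _root_.one_mul, inv_one, _root_.mul_one]
    exact congrArg toConv (AlgHom.ext fun x => aug_single (k := k) (1 : M) x)
  exact AlgHom.congr_fun h a

theorem sum_coeff (a : A) : ∑ w ∈ (cj π a).coeff.support, (cj π a).coeff w = a := by
  classical
  conv_rhs => rw [← aug_cj π a]
  have : ∀ y : MonoidAlgebra A M, aug (k := k) y = y.coeff.sum fun _ b => b := by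
    intro y
    induction y using MonoidAlgebra.induction_linear with
    | zero => simp
    | add p q hp hq => rw [map_add, hp, hq, MonoidAlgebra.coeff_add, Finsupp.sum_add_index] <;> simp
    | single m r => rw [aug_single, MonoidAlgebra.coeff_single, Finsupp.sum_single_index]; rfl
  rw [this]
  rfl

/-- The counit on the coefficients. -/
def eps : MonoidAlgebra A M →ₐ[k] MonoidAlgebra k M :=
  MonoidAlgebra.liftNCAlgHom ((Algebra.ofId k (MonoidAlgebra k M)).comp (Bialgebra.counitAlgHom k A))
    (MonoidAlgebra.of k M) fun _ _ => Commute.all _ _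

theorem eps_single (m : M) (b : A) :
    eps (k := k) (MonoidAlgebra.single m b) = MonoidAlgebra.single m (counit (R := k) b) := by
  simp [eps, MonoidAlgebra.liftNCAlgHom, MonoidAlgebra.liftNCRingHom]

theorem counit_coeff (a : A) (w : M) :
    counit (R := k) ((cj π a).coeff w) = (MonoidAlgebra.single (1 : M) (counit (R := k) a)).coeff w := by
  have ht : (eps (k := k) (A := A) (M := M)).comp (tor π) = π.toAlgHom := by
    refine AlgHom.ext fun x => ?_
    show eps (k := k) (iota (π x)) = π x
    generalize (π x : MonoidAlgebra k M) = z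
    induction z using MonoidAlgebra.induction_linear with
    | zero => simp
    | add p q hp hq => simp only [map_add, hp, hq]
    | single m r => rw [iota_single, eps_single]; simp
  have hi : (eps (k := k) (A := A) (M := M)).comp (incl A M) = (1 : WithConv (A →ₐ[k] MonoidAlgebra k M)).ofConv := by
    refine AlgHom.ext fun x => ?_
    show eps (k := k) (MonoidAlgebra.single (1 : M) x) = _
    rw [AlgHom.convOne_def, eps_single]
    simp [MonoidAlgebra.algebraMap_def]
  have h : (eps (k := k) (A := A) (M := M)).comp (cj π) = (1 : WithConv (A →ₐ[k] MonoidAlgebra k M)).ofConv := by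
    apply toConv_injective
    rw [← post_apply, show toConv (cj π) = toConv (tor π) * toConv (incl A M) * (toConv (tor π))⁻¹ from rfl,
      map_mul, map_mul, map_inv, post_apply, post_apply, hi, toConv_ofConv, _root_.mul_one, mul_inv_cancel]
  have h1 := congrArg (fun y => y.coeff w) (AlgHom.congr_fun h a)
  simp only [AlgHom.comp_apply] at h1
  have h2 : ∀ y : MonoidAlgebra A M, (eps (k := k) y).coeff w = counit (R := k) (y.coeff w) := by
    intro y
    induction y using MonoidAlgebra.induction_linear with
    | zero => simp
    | add p q hp hq => simp [hp, hq]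
    | single m r =>
      rw [eps_single, MonoidAlgebra.coeff_single, MonoidAlgebra.coeff_single]
      exact (Finsupp.apply_single' _ (map_zero _) _ _ _).symm
  rw [← h2, h1, AlgHom.convOne_def]
  simp [MonoidAlgebra.algebraMap_def]

/-- The functional of a weight on the coefficients. -/
def wf (δ : M → k) (φ : A →ₗ[k] k) : MonoidAlgebra A M →ₗ[k] k :=
  (Finsupp.lsum k (fun w => δ w • φ)) ∘ₗ (MonoidAlgebra.coeffLinearEquiv k).toLinearMap

theorem wf_single (δ : M → k) (φ : A →ₗ[k] k) (m : M) (b : A) :
    wf δ φ (MonoidAlgebra.single m b) = δ m * φ b := by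
  simp [wf]

theorem wf_mul_iota (δ : M → k) (hδ : ∀ a b, δ (a * b) = δ a + δ b) (φ : A →ₗ[k] k) (x : MonoidAlgebra A M)
    (y : MonoidAlgebra k M) :
    wf δ φ (x * iota y) = wf δ φ x * counit (R := k) y + φ (aug (k := k) x) * dl δ y := by
  induction x using MonoidAlgebra.induction_linear with
  | zero => simp
  | add x x' hx hx' => simp only [map_add, add_mul, hx, hx']; ring
  | single m b =>
    induction y using MonoidAlgebra.induction_linear with
    | zero => simp
    | add y y' hy hy' => simp only [map_add, mul_add, hy, hy']; ring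
    | single n r =>
      rw [iota_single, MonoidAlgebra.single_mul_single, wf_single, wf_single, aug_single, dl_single, hδ,
        MonoidAlgebra.counit_single, mul_comm b, ← Algebra.smul_def, map_smul]
      simp only [CommSemiring.counit_apply, smul_eq_mul]
      ring

/-- The commutator of the derivation of an additive function with a functional is given by the weights. -/
theorem adD_dd (δ : M → k) (hδ : ∀ a b, δ (a * b) = δ a + δ b) (φ : A →ₗ[k] k) (a : A) :
    adD (dd π δ) φ a = wf δ φ (cj π a) := by
  have h1 : wf δ φ ((toConv (cj π) * toConv (tor π)).ofConv a) =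
      wf δ φ (cj π a) + conv φ (dd π δ) a := by
    have key : ∀ z : A ⊗[k] A, wf δ φ (Algebra.TensorProduct.lift (cj π) (tor π) (fun _ _ => Commute.all _ _) z) =
        wf δ φ (cj π (TensorProduct.rid k A ((counit (R := k)).lTensor A z))) +
          LinearMap.mul' k k (TensorProduct.map φ (dd π δ) z) := by
      intro z
      induction z using TensorProduct.induction_on with
      | zero => simp
      | add x y hx hy => simp only [map_add, hx, hy]; ring
      | tmul x y =>
        rw [Algebra.TensorProduct.lift_tmul]
        simp only [TensorProduct.map_tmul, LinearMap.mul'_apply, LinearMap.lTensor_tmul,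
          TensorProduct.rid_tmul, map_smul, smul_eq_mul]
        show wf δ φ (cj π x * iota (π y)) = _
        rw [wf_mul_iota δ hδ, aug_cj, show dd π δ y = dl δ (π y) from rfl,
          CoalgHomClass.counit_comp_apply π y]
        ring
    rw [AlgHom.convMul_apply]
    simp only [toConv_ofConv, ofConv_toConv]
    rw [key, Coalgebra.lTensor_counit_comul, TensorProduct.rid_tmul, one_smul]
    rfl
  have h2 : wf δ φ ((toConv (tor π) * toConv (incl A M)).ofConv a) = conv (dd π δ) φ a := by
    have key : ∀ z : A ⊗[k] A, wf δ φ (Algebra.TensorProduct.lift (tor π) (incl A M) (fun _ _ => Commute.all _ _) z) =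
        LinearMap.mul' k k (TensorProduct.map (dd π δ) φ z) := by
      intro z
      induction z using TensorProduct.induction_on with
      | zero => simp
      | add x y hx hy => simp only [map_add, hx, hy]
      | tmul x y =>
        rw [Algebra.TensorProduct.lift_tmul]
        simp only [TensorProduct.map_tmul, LinearMap.mul'_apply]
        show wf δ φ (iota (π x) * MonoidAlgebra.single (1 : M) y) = dl δ (π x) * φ y
        generalize (π x : MonoidAlgebra k M) = p
        induction p using MonoidAlgebra.induction_linear with
        | zero => simp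
        | add p q hp hq => simp only [map_add, add_mul, hp, hq]
        | single m r =>
          rw [iota_single, MonoidAlgebra.single_mul_single, _root_.mul_one, wf_single, dl_single, ← Algebra.smul_def,
            map_smul, smul_eq_mul]
          ring
    rw [AlgHom.convMul_apply]
    simp only [toConv_ofConv, ofConv_toConv]
    rw [key]
    rfl
  rw [cj_mul] at h1
  rw [adD, LinearMap.sub_apply, ← h2, h1, add_sub_cancel_right]

theorem adD_iterate_homog (δ : M → k) (hδ : ∀ a b, δ (a * b) = δ a + δ b) {w : M} {a : A} (ha : Homog π w a)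
    (φ : A →ₗ[k] k) (n : ℕ) : (adD (dd π δ))^[n] φ a = δ w ^ n * φ a := by
  induction n with
  | zero => simp
  | succ n ih => rw [Function.iterate_succ_apply', adD_dd π δ hδ, ha, wf_single, ih, pow_succ]; ring

/-- The augmentation ideal. -/
abbrev aug0 : Ideal A := RingHom.ker (Bialgebra.counitAlgHom k A)

theorem exists_isDer {a : A} (ha : a ∈ aug0 (k := k)) (ha2 : a ∉ (aug0 (k := k)) ^ 2) :
    ∃ φ : A →ₗ[k] k, IsDer φ ∧ φ a ≠ 0 := by
  let W : Submodule k A := Submodule.span k {(1 : A)} ⊔ ((aug0 (k := k)) ^ 2).restrictScalars k
  have hle : ∀ x ∈ (aug0 (k := k) (A := A)) ^ 2, counit (R := k) x = 0 := fun x hx =>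
    (Ideal.pow_le_self two_ne_zero hx : x ∈ aug0)
  have haW : a ∉ W := by
    intro h
    obtain ⟨c, hc, s, hs, hcs⟩ := Submodule.mem_sup.1 h
    obtain ⟨r, rfl⟩ := Submodule.mem_span_singleton.1 hc
    have h0 : counit (R := k) a = 0 := ha
    rw [← hcs, map_add, map_smul, Bialgebra.counit_one, hle s hs, add_zero, smul_eq_mul, _root_.mul_one] at h0
    exact ha2 (by rw [← hcs, h0, zero_smul, zero_add]; exact hs)
  obtain ⟨φ, hφ, hφW⟩ := Submodule.exists_dual_map_eq_bot_of_notMem haW inferInstance
  have hW : ∀ x ∈ W, φ x = 0 := fun x hx => (Submodule.mem_bot k).mp (hφW ▸ ⟨x, hx, rfl⟩)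
  refine ⟨φ, fun x y => ?_, hφ⟩
  have hm : (x - algebraMap k A (counit (R := k) x)) * (y - algebraMap k A (counit (R := k) y)) ∈
      (aug0 (k := k)) ^ 2 := by
    rw [pow_two]
    refine Ideal.mul_mem_mul ?_ ?_ <;> simp [RingHom.mem_ker]
  have h1 := hW _ (Submodule.mem_sup_right hm)
  have h1' : φ 1 = 0 := hW _ (Submodule.mem_sup_left (Submodule.mem_span_singleton_self 1))
  have e : (x - algebraMap k A (counit (R := k) x)) * (y - algebraMap k A (counit (R := k) y)) =
      x * y - counit (R := k) y • x - counit (R := k) x • y + (counit (R := k) x * counit (R := k) y) • (1 : A) := by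
    simp only [Algebra.smul_def, map_mul, _root_.mul_one]
    ring
  rw [e, map_add, map_sub, map_sub, map_smul, map_smul, map_smul, h1'] at h1
  simp only [smul_eq_mul] at h1
  linear_combination h1

theorem coeff_mem_aug0 {b : A} (hb : b ∈ aug0 (k := k)) (w : M) : (cj π b).coeff w ∈ aug0 (k := k) := by
  show counit (R := k) _ = 0
  rw [counit_coeff, show counit (R := k) b = 0 from hb]
  simp

theorem homog_mem_aug0 {w : M} (hw : w ≠ 1) {b : A} (hb : Homog π w b) : b ∈ aug0 (k := k) := by
  classical
  have h := counit_coeff π b w
  rw [hb, MonoidAlgebra.coeff_single, Finsupp.single_eq_same, MonoidAlgebra.coeff_single,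
    Finsupp.single_apply, if_neg (Ne.symm hw)] at h
  exact h

variable [IsDomain A] [IsNoetherianRing A]

/-- If the weights outside the kernel vanish on the cotangent space, the kernel of the weights is central. -/
theorem central_of_weights {Q : Type*} [CommGroup Q] (q : M →* Q)
    (h2 : ∀ w, q w ≠ 1 → ∀ b, Homog π w b → b ∈ aug0 (k := k) → b ∈ (aug0 (k := k) (A := A)) ^ 2) (a : A) :
    MonoidAlgebra.mapDomain q (cj π a) = MonoidAlgebra.single 1 a := by
  classical
  set m : Ideal A := aug0 (k := k) with hm
  have hPm : ∀ b ∈ m, ∀ w, (cj π b).coeff w ∈ m := fun b hb w => by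
    show counit (R := k) _ = 0
    rw [counit_coeff, show counit (R := k) b = 0 from hb]
    simp
  have hP : ∀ n : ℕ, ∀ b ∈ m ^ (n + 1), ∀ w, (cj π b).coeff w ∈ m ^ (n + 1) ∧
      (q w ≠ 1 → (cj π b).coeff w ∈ m ^ (n + 2)) := by
    intro n
    induction n with
    | zero =>
      intro b hb w
      rw [pow_one] at hb ⊢
      exact ⟨hPm b hb w, fun hw => h2 w hw _ (homog_coeff π b w) (hPm b hb w)⟩
    | succ n ih =>
      intro b hb w
      rw [pow_succ] at hb
      induction hb using Submodule.mul_induction_on' with
      | mem_mul_mem x hx y hy =>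
        rw [map_mul, MonoidAlgebra.coeff_mul]
        simp only [Finsupp.sum, Finsupp.finsetSum_apply]
        refine ⟨Ideal.sum_mem _ fun u _ => Ideal.sum_mem _ fun v _ => ?_,
          fun hw => Ideal.sum_mem _ fun u _ => Ideal.sum_mem _ fun v _ => ?_⟩
        · split_ifs with huv
          · rw [pow_succ]
            exact Ideal.mul_mem_mul (ih x hx u).1 (hPm y hy v)
          · exact zero_mem _
        · split_ifs with huv
          · by_cases hu : q u = 1
            · have hv : q v ≠ 1 := fun hv => hw (by rw [← huv, map_mul, hu, hv, _root_.mul_one])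
              rw [show n + 1 + 2 = (n + 1) + 2 by rfl, pow_add]
              exact Ideal.mul_mem_mul (ih x hx u).1 (h2 v hv _ (homog_coeff π y v) (hPm y hy v))
            · rw [show n + 1 + 2 = (n + 2) + 1 by omega, pow_succ]
              exact Ideal.mul_mem_mul ((ih x hx u).2 hu) (hPm y hy v)
          · exact zero_mem _
      | add x _ y _ hx hy =>
        simp only [map_add, MonoidAlgebra.coeff_add, Finsupp.add_apply]
        exact ⟨add_mem hx.1 hy.1, fun hw => add_mem (hx.2 hw) (hy.2 hw)⟩
  have htop : m ≠ ⊤ := by
    rw [hm]
    exact RingHom.ker_ne_top _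
  have hzero : ∀ w, q w ≠ 1 → (cj π a).coeff w = 0 := by
    intro w hw
    have hb := homog_coeff π a w
    have hbm : (cj π a).coeff w ∈ m := by
      show counit (R := k) _ = 0
      rw [counit_coeff, MonoidAlgebra.coeff_single, Finsupp.single_apply, if_neg]
      rintro rfl
      exact hw (map_one q)
    have hall : ∀ n, (cj π a).coeff w ∈ m ^ (n + 1) := by
      intro n
      induction n with
      | zero => rwa [pow_one]
      | succ n ih =>
        have h := (hP n _ ih w).2 hw
        rwa [hb, MonoidAlgebra.coeff_single, Finsupp.single_eq_same] at h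
    rw [← Submodule.mem_bot A, ← Ideal.iInf_pow_eq_bot_of_isDomain m htop, Submodule.mem_iInf]
    intro n
    exact Ideal.pow_le_pow_right (Nat.le_succ n) (hall n)
  refine MonoidAlgebra.coeff_injective ?_
  rw [MonoidAlgebra.coeff_mapDomain, MonoidAlgebra.coeff_single, Finsupp.mapDomain]
  conv_rhs => rw [← sum_coeff π a, Finsupp.single_finsetSum]
  refine Finset.sum_congr rfl fun w hw => ?_
  by_cases hq : q w = 1
  · simp [hq]
  · simp [hzero w hq]

/-- If the commutators with the derivations of the torus are nilpotent, the kernel of the weights is central. -/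
theorem central {Q : Type*} [CommGroup Q] (q : M →* Q)
    (hsep : ∀ w, q w ≠ 1 → ∃ δ : M → k, (∀ a b, δ (a * b) = δ a + δ b) ∧ δ w ≠ 0 ∧
      ∀ φ : A →ₗ[k] k, IsDer φ → ∃ N, (adD (dd π δ))^[N] φ = 0) (a : A) :
    MonoidAlgebra.mapDomain q (cj π a) = MonoidAlgebra.single 1 a := by
  classical
  have h2 : ∀ w, q w ≠ 1 → ∀ b, Homog π w b → b ∈ aug0 (k := k) → b ∈ (aug0 (k := k) (A := A)) ^ 2 := by
    intro w hw b hb hbm
    by_contra hb2
    obtain ⟨φ, hφ, hφb⟩ := exists_isDer hbm hb2
    obtain ⟨δ, hδ, hδw, hnil⟩ := hsep w hw
    obtain ⟨N, hN⟩ := hnil φ hφ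
    have h := adD_iterate_homog π δ hδ hb φ N
    rw [hN, LinearMap.zero_apply] at h
    exact mul_ne_zero (pow_ne_zero _ hδw) hφb h.symm
  exact central_of_weights π q h2 a

omit [IsDomain A] in
/-- Only finitely many weights occur on the cotangent space. -/
theorem finite_weights :
    {w : M | ∃ a, Homog π w a ∧ a ∈ aug0 (k := k) ∧ a ∉ (aug0 (k := k) (A := A)) ^ 2}.Finite := by
  classical
  set m : Ideal A := aug0 (k := k) with hm
  obtain ⟨s, hs⟩ := (IsNoetherian.noetherian m : m.FG)
  refine (s.biUnion fun g => (cj π g).coeff.support).finite_toSet.subset ?_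
  rintro w ⟨a, ha, ham, ha2⟩
  by_contra hw
  refine ha2 ?_
  have key : ∀ x ∈ m, (cj π x).coeff w ∈ m ^ 2 := by
    intro x hx
    rw [← hs] at hx
    induction hx using Submodule.span_induction with
    | mem g hg =>
      have : (cj π g).coeff w = 0 := by
        by_contra hne
        exact hw (Finset.mem_coe.2 (Finset.mem_biUnion.2 ⟨g, hg, Finsupp.mem_support_iff.2 hne⟩))
      rw [this]
      exact zero_mem _
    | zero => simp
    | add x y _ _ hx hy =>
      simp only [map_add, MonoidAlgebra.coeff_add, Finsupp.add_apply]
      exact add_mem hx hy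
    | smul r x hxs hx =>
      have hxm : x ∈ m := hs ▸ hxs
      have e : r • x = algebraMap k A (counit (R := k) r) * x + (r - algebraMap k A (counit (R := k) r)) * x := by
        rw [smul_eq_mul]; ring
      rw [e, map_add, MonoidAlgebra.coeff_add, Finsupp.add_apply]
      refine add_mem ?_ ?_
      · rw [map_mul, AlgHom.commutes, ← Algebra.smul_def, MonoidAlgebra.coeff_smul, Finsupp.smul_apply,
          Algebra.smul_def]
        exact Ideal.mul_mem_left _ _ hx
      · rw [map_mul, MonoidAlgebra.coeff_mul]
        simp only [Finsupp.sum, Finsupp.finsetSum_apply]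
        refine Ideal.sum_mem _ fun u _ => Ideal.sum_mem _ fun v _ => ?_
        rw [pow_two]
        split_ifs with huv
        · exact Ideal.mul_mem_mul (coeff_mem_aug0 π (by simp [RingHom.mem_ker]) u) (coeff_mem_aug0 π hxm v)
        · exact zero_mem _
  have h := key a ham
  rwa [ha, MonoidAlgebra.coeff_single, Finsupp.single_eq_same] at h

end

end Groth.Agent.H66.LieWt
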